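import Mathlib
import Cfsg.Agent.Class.Sp.Gen

/-! A coordinate model of a Sylow `p`-subgroup of `Sp₄(K)`, `K` finite of characteristic `p`. -/

set_option autoImplicit false

namespace Cfsg.Agent.SpF

open Matrix

/-- The unipotent group of `Sp₄(K)` in coordinates. -/
@[ext] structure U (K : Type*) where
  t : K
  u : K
  v : K
  w : K

namespace U

variable {K : Type*} [Field K]

instance : Mul (U K) :=
  ⟨fun x y => ⟨x.t + y.t, x.u + y.u, x.v + y.v + x.t * y.u,
    x.w + y.w + 2 * x.t * y.v + x.t ^ 2 * y.u⟩⟩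

instance : One (U K) := ⟨⟨0, 0, 0, 0⟩⟩

instance : Inv (U K) :=
  ⟨fun x => ⟨-x.t, -x.u, -x.v + x.t * x.u, -x.w + 2 * x.t * x.v - x.t ^ 2 * x.u⟩⟩

@[simp] theorem mul_t (x y : U K) : (x * y).t = x.t + y.t := rfl
@[simp] theorem mul_u (x y : U K) : (x * y).u = x.u + y.u := rfl
@[simp] theorem mul_v (x y : U K) : (x * y).v = x.v + y.v + x.t * y.u := rfl
@[simp] theorem mul_w (x y : U K) :
    (x * y).w = x.w + y.w + 2 * x.t * y.v + x.t ^ 2 * y.u := rfl
@[simp] theorem one_t : (1 : U K).t = 0 := rfl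
@[simp] theorem one_u : (1 : U K).u = 0 := rfl
@[simp] theorem one_v : (1 : U K).v = 0 := rfl
@[simp] theorem one_w : (1 : U K).w = 0 := rfl
@[simp] theorem inv_t (x : U K) : x⁻¹.t = -x.t := rfl
@[simp] theorem inv_u (x : U K) : x⁻¹.u = -x.u := rfl
@[simp] theorem inv_v (x : U K) : x⁻¹.v = -x.v + x.t * x.u := rfl
@[simp] theorem inv_w (x : U K) : x⁻¹.w = -x.w + 2 * x.t * x.v - x.t ^ 2 * x.u := rfl

instance : Group (U K) := Group.ofLeftAxioms
  (fun x y z => by ext <;> simp <;> ring) (fun x => by ext <;> simp)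
  (fun x => by ext <;> simp <;> ring)

/-- The coordinates. -/
def equivProd (K : Type*) : U K ≃ K × K × K × K where
  toFun x := (x.t, x.u, x.v, x.w)
  invFun y := ⟨y.1, y.2.1, y.2.2.1, y.2.2.2⟩
  left_inv _ := rfl
  right_inv _ := rfl

instance [Finite K] : Finite (U K) := Finite.of_equiv _ (equivProd K).symm

theorem card_U : Nat.card (U K) = Nat.card K ^ 4 := by
  rw [Nat.card_congr (equivProd K)]
  simp only [Nat.card_prod]
  ring

theorem conj_t (g x : U K) : (g * x * g⁻¹).t = x.t := by simp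
theorem conj_u (g x : U K) : (g * x * g⁻¹).u = x.u := by simp
theorem conj_v (g x : U K) : (g * x * g⁻¹).v = x.v + (g.t * x.u - x.t * g.u) := by simp; ring
theorem conj_w (g x : U K) : (g * x * g⁻¹).w = x.w + (2 * g.t * x.v - 2 * x.t * g.v +
    g.t ^ 2 * x.u - x.t ^ 2 * g.u) := by simp; ring

/-- The subgroup `t = 0`. -/
def sA (K : Type*) [Field K] : Subgroup (U K) where
  carrier := {x | x.t = 0}
  one_mem' := rfl
  mul_mem' := by intro a b ha hb; simp_all
  inv_mem' := by intro a ha; simp_all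

/-- The subgroup `u = 0`. -/
def sB (K : Type*) [Field K] : Subgroup (U K) where
  carrier := {x | x.u = 0}
  one_mem' := rfl
  mul_mem' := by intro a b ha hb; simp_all
  inv_mem' := by intro a ha; simp_all

/-- The subgroup `t = u = 0`. -/
def sY (K : Type*) [Field K] : Subgroup (U K) where
  carrier := {x | x.t = 0 ∧ x.u = 0}
  one_mem' := ⟨rfl, rfl⟩
  mul_mem' := by intro a b ha hb; simp_all
  inv_mem' := by intro a ha; simp_all

/-- The subgroup `t = u = v = 0`. -/
def sZ (K : Type*) [Field K] : Subgroup (U K) where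
  carrier := {x | x.t = 0 ∧ x.u = 0 ∧ x.v = 0}
  one_mem' := ⟨rfl, rfl, rfl⟩
  mul_mem' := by intro a b ha hb; simp_all
  inv_mem' := by intro a ha; simp_all

@[simp] theorem mem_sA {x : U K} : x ∈ sA K ↔ x.t = 0 := Iff.rfl
@[simp] theorem mem_sB {x : U K} : x ∈ sB K ↔ x.u = 0 := Iff.rfl
@[simp] theorem mem_sY {x : U K} : x ∈ sY K ↔ x.t = 0 ∧ x.u = 0 := Iff.rfl
@[simp] theorem mem_sZ {x : U K} : x ∈ sZ K ↔ x.t = 0 ∧ x.u = 0 ∧ x.v = 0 := Iff.rfl

theorem comm_iff {x y : U K} : x * y = y * x ↔ x.t * y.u = y.t * x.u ∧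
    2 * x.t * y.v + x.t ^ 2 * y.u = 2 * y.t * x.v + y.t ^ 2 * x.u := by
  simp only [U.ext_iff, mul_t, mul_u, mul_v, mul_w]
  exact ⟨fun ⟨_, _, h1, h2⟩ => ⟨by linear_combination h1, by linear_combination h2⟩,
    fun ⟨h1, h2⟩ => ⟨by ring, by ring, by linear_combination h1, by linear_combination h2⟩⟩

theorem sZ_comm {z : U K} (hz : z ∈ sZ K) (y : U K) : z * y = y * z :=
  comm_iff.2 (by simp [hz.1, hz.2.1, hz.2.2])

theorem sZ_conj (g : U K) {z : U K} (hz : z ∈ sZ K) : g * z * g⁻¹ = z := by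
  rw [← sZ_comm hz, mul_inv_cancel_right]

/-- The matrix of an element. -/
def toSp : U K →* symplecticGroup (Fin 2) K :=
  MonoidHom.mk' (fun x => ⟨fromBlocks !![1, x.t; 0, 1] !![x.w - x.t * x.v, x.v; x.v - x.t * x.u, x.u]
      0 !![1, 0; -x.t, 1], SymplecticGroup.fromBlocks_mem_iff.2 ⟨by simp, by
        ext i j; fin_cases i <;> fin_cases j <;> simp [Matrix.mul_apply] <;> ring, by
        ext i j; fin_cases i <;> fin_cases j <;> simp [Matrix.mul_apply]⟩⟩)
    fun x y => Subtype.ext (by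
      simp only [Submonoid.mk_mul_mk, fromBlocks_multiply]
      congr 1 <;> ext i j <;> fin_cases i <;> fin_cases j <;> simp <;> ring)

theorem toSp_injective : Function.Injective (toSp : U K → symplecticGroup (Fin 2) K) := by
  rw [injective_iff_map_eq_one]
  intro x hx
  have h := congrArg Subtype.val hx
  have h1 := congrFun (congrFun h (Sum.inl 0)) (Sum.inl 1)
  have h2 := congrFun (congrFun h (Sum.inl 1)) (Sum.inr 1)
  have h3 := congrFun (congrFun h (Sum.inl 0)) (Sum.inr 1)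
  have h4 := congrFun (congrFun h (Sum.inl 0)) (Sum.inr 0)
  simp [toSp] at h1 h2 h3 h4
  ext <;> simp_all

variable [Fintype K] {p : ℕ} [hp : Fact p.Prime] [CharP K p]

theorem isPGroup : IsPGroup p (U K) := by
  obtain ⟨n, -, hn⟩ := FiniteField.card K p
  exact IsPGroup.of_card (n := n * 4) (by rw [card_U, Nat.card_eq_fintype_card, hn, pow_mul])

theorem exists_equiv (T : Sylow p (symplecticGroup (Fin 2) K)) :
    Nonempty ((T : Subgroup (symplecticGroup (Fin 2) K)) ≃* U K) := by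
  obtain ⟨n, -, hn⟩ := FiniteField.card K p
  have h : ∀ k, 0 < k → ¬ p ∣ (p ^ (n : ℕ)) ^ k - 1 := fun k hk e => hp.out.one_lt.ne' (Nat.dvd_one.1
    ((Nat.dvd_sub_iff_right (Nat.one_le_pow _ _ (pow_pos hp.out.pos _))
      (dvd_pow (dvd_pow_self p n.ne_zero) hk.ne')).1 e))
  have h' : ¬ p ∣ ((p ^ (n : ℕ)) ^ 2 - 1) * ((p ^ (n : ℕ)) ^ 4 - 1) := fun e =>
    ((Nat.Prime.dvd_mul hp.out).1 e).elim (h 2 (by norm_num)) (h 4 (by norm_num))
  have hf : (Nat.card (symplecticGroup (Fin 2) K)).factorization p = n * 4 := by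
    rw [Class.Sp.card_Sp, Nat.card_eq_fintype_card, hn]
    simp only [Finset.prod_range_succ, Finset.prod_range_zero, one_mul]
    rw [Nat.factorization_mul (pow_pos (pow_pos hp.out.pos _) _).ne' (fun e => h' (by simp [e]))]
    simp [Nat.factorization_eq_zero_of_not_dvd h', hp.out.factorization_self, mul_comm]
  let P : Sylow p (symplecticGroup (Fin 2) K) := Sylow.ofCard (toSp (K := K)).range (by
    rw [← Nat.card_congr (MonoidHom.ofInjective toSp_injective).toEquiv, card_U, hf,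
      Nat.card_eq_fintype_card, hn, pow_mul])
  exact ⟨(T.equiv P).trans (MonoidHom.ofInjective toSp_injective).symm⟩

end U

end Cfsg.Agent.SpF
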