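import Mathlib
import Cfsg.Agent.Fus.SylIn

/-! Groups acting on finite abelian groups with a Sylow subgroup of shears. -/

set_option autoImplicit false

namespace Cfsg.Agent.SpF

open Subgroup Cfsg.Agent.Fus

variable {G : Type*} [Group G] {p : ℕ}

/-- A `p`-element of `M` lies in each normal subgroup of `M` containing a Sylow subgroup. -/
theorem mem_of_pElt [Finite G] [Fact p.Prime] (P : Sylow p G) {N M : Subgroup G}
    (hPN : (P : Subgroup G) ≤ N) (hNM : N ≤ M) (hn : ∀ m ∈ M, ∀ x ∈ N, m * x * m⁻¹ ∈ N) {s : G}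
    (hs : s ∈ M) (hk : IsPGroup p (zpowers s)) : s ∈ N := by
  obtain ⟨g, hg, e⟩ := (sylIn_of_sylow_le P (hPN.trans hNM)).exists_conj hk (zpowers_le.2 hs)
  simpa [mul_assoc] using hn g⁻¹ (inv_mem hg) _ (hPN (e s (mem_zpowers s)))

theorem pElt_of_mem (P : Sylow p G) {s : G} (hs : s ∈ (P : Subgroup G)) : IsPGroup p (zpowers s) :=
  P.isPGroup'.to_le (zpowers_le.2 hs)

theorem mem_smul_sylow (P : Sylow p G) (g s : G) :
    s ∈ ((g • P : Sylow p G) : Subgroup G) ↔ g⁻¹ * s * g ∈ (P : Subgroup G) := by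
  rw [Sylow.coe_subgroup_smul, Subgroup.mem_pointwise_smul_iff_inv_smul_mem]
  simp [MulAut.smul_def]

variable {V : Type*} [AddCommGroup V] [DistribMulAction G V]

/-- The key step: a `p`-element cannot shear `x` along `y` when a Sylow subgroup fixes both. -/
theorem eq_zero_of_step [Finite G] [Fact p.Prime] (P : Sylow p G) {x y : V}
    (hx : ∀ s ∈ (P : Subgroup G), s • x = x) (hy : ∀ s ∈ (P : Subgroup G), s • y = y) {s : G}
    (hk : IsPGroup p (zpowers s)) (h1 : s • y = y) (h2 : s • x - x = y) : y = 0 := by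
  have hz : ∀ g : G, g • y = y → ∀ d ∈ AddSubgroup.zmultiples y, g • d = d := by
    rintro g hg _ ⟨n, rfl⟩
    simp only [smul_comm g n, hg]
  let M : Subgroup G :=
    { carrier := {g | g • y = y ∧ g • x - x ∈ AddSubgroup.zmultiples y}
      one_mem' := by simp
      mul_mem' := by
        rintro a b ⟨a1, a2⟩ ⟨b1, b2⟩
        refine ⟨by rw [mul_smul, b1, a1], ?_⟩
        have : (a * b) • x - x = a • (b • x - x) + (a • x - x) := by rw [mul_smul, smul_sub]; abel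
        rw [this, hz a a1 _ b2]
        exact add_mem b2 a2
      inv_mem' := by
        rintro a ⟨a1, a2⟩
        have h1 : a⁻¹ • y = y := by rw [inv_smul_eq_iff, a1]
        refine ⟨h1, ?_⟩
        have : a⁻¹ • x - x = -(a⁻¹ • (a • x - x)) := by rw [smul_sub, inv_smul_smul]; abel
        rw [this, hz _ h1 _ a2]
        exact neg_mem a2 }
  have := mem_of_pElt P (N := MulAction.stabilizer G y ⊓ MulAction.stabilizer G x) (M := M)
    (fun s hs => ⟨hy s hs, hx s hs⟩) (fun g hg => ⟨hg.1, by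
      rw [show g • x = x from hg.2, sub_self]; exact zero_mem _⟩)
    (fun m hm g hg => ⟨?_, ?_⟩) (s := s) ⟨h1, h2 ▸ AddSubgroup.mem_zmultiples y⟩ hk
  · rw [← h2, show s • x = x from this.2, sub_self]
  · have h3 : m⁻¹ • y = y := (M.inv_mem hm).1
    show (m * g * m⁻¹) • y = y
    rw [mul_smul, mul_smul, h3, show g • y = y from hg.1, hm.1]
  · have h3 := (M.inv_mem hm).2
    show (m * g * m⁻¹) • x = x
    have h4 : g • m⁻¹ • x = m⁻¹ • x := by
      have : m⁻¹ • x = (m⁻¹ • x - x) + x := by abel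
      rw [this, smul_add, hz g hg.1 _ h3, show g • x = x from hg.2]
    rw [mul_smul, mul_smul, h4, smul_inv_smul]

/-- The Sylow subgroup `P` acts as a full group of shears with axis `V₁`. -/
structure Sh (P : Sylow p G) (V₁ : AddSubgroup V) : Prop where
  fix : ∀ s ∈ (P : Subgroup G), ∀ y ∈ V₁, s • y = y
  mem : ∀ s ∈ (P : Subgroup G), ∀ x, s • x - x ∈ V₁
  surj : ∀ x ∉ V₁, ∀ y ∈ V₁, ∃ s ∈ (P : Subgroup G), s • x - x = y
  inj : ∀ s ∈ (P : Subgroup G), ∀ x ∉ V₁, s • x = x → ∀ x' : V, s • x' = x'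

namespace Sh

variable [Finite G] [Fact p.Prime] {P : Sylow p G} {V₁ : AddSubgroup V} (h : Sh P V₁)
include h

theorem ti {g : G} {y : V} (hy : y ∈ V₁) (hy0 : y ≠ 0) (hg : g • y ∈ V₁) {x : V} (hx : x ∈ V₁) :
    g • x ∈ V₁ := by
  by_contra hc
  obtain ⟨s, hs, e⟩ := h.surj _ hc _ hg
  have key : ∀ z ∈ V₁, ∀ s ∈ ((g • P : Sylow p G) : Subgroup G), s • g • z = g • z :=
    fun z hz s hs => by
      have := h.fix _ ((mem_smul_sylow P g s).1 hs) z hz
      rwa [mul_smul, mul_smul, inv_smul_eq_iff] at this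
  exact hy0 ((smul_eq_zero_iff_eq g).1 (eq_zero_of_step (g • P) (key x hx) (key y hy)
    (pElt_of_mem P hs) (h.fix s hs _ hg) e))

theorem span [Finite V] {g : G} {x₀ : V} (hx₀ : x₀ ∈ V₁) (hg : g • x₀ ∉ V₁) (x : V) :
    ∃ y ∈ V₁, x - g • y ∈ V₁ := by
  have h0 : x₀ ≠ 0 := by rintro rfl; exact hg (by simp)
  obtain ⟨s, hs, e⟩ := h.surj _ hg _ hx₀
  have hs1 : ∀ z, s • z = z → z ∈ V₁ := fun z hz => by_contra fun hc =>
    h0 (by rw [← e, h.inj s hs z hc hz, sub_self])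
  have hi : Function.Injective fun y : V₁ => (⟨s • g • (y : V) - g • (y : V), h.mem s hs _⟩ : V₁) := by
    intro a b e
    have e' : s • g • ((a : V) - b) = g • ((a : V) - b) := by
      have := congrArg Subtype.val e
      simp only [smul_sub] at this ⊢
      exact sub_eq_sub_iff_sub_eq_sub.1 this
    by_contra hab
    exact hg (h.ti (sub_mem a.2 b.2) (fun e => hab (Subtype.ext (sub_eq_zero.1 e))) (hs1 _ e') hx₀)
  obtain ⟨y, hy⟩ := Finite.injective_iff_surjective.1 hi ⟨_, h.mem s hs x⟩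
  refine ⟨y, y.2, hs1 _ ?_⟩
  have := congrArg Subtype.val hy
  simp only [smul_sub] at this ⊢
  exact sub_eq_sub_iff_sub_eq_sub.1 this.symm

theorem trans (N : Subgroup G) [hN : N.Normal] (hP : (P : Subgroup G) ≤ N) {g : G} {x₀ : V}
    (hx₀ : x₀ ∈ V₁) (hg : g • x₀ ∉ V₁) {y₁ y₂ : V} (h1 : y₁ ∈ V₁)
    (h1' : y₁ ≠ 0) (h2 : y₂ ∈ V₁) (h2' : y₂ ≠ 0) : ∃ n ∈ N, n • y₁ = y₂ := by
  have key : ∀ y ∈ V₁, y ≠ 0 → ∃ n ∈ N, n • y = g • x₀ := fun y hy hy0 => by
    have h3 : g⁻¹ • y ∉ V₁ := fun hc =>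
      hg (h.ti hc (fun e => hy0 ((smul_eq_zero_iff_eq _).1 e)) (by simpa using hy) hx₀)
    obtain ⟨s', hs', e'⟩ := h.surj _ h3 _ hx₀
    obtain ⟨s, hs, e⟩ := h.surj _ hg _ hy
    refine ⟨s⁻¹ * (g * s' * g⁻¹), mul_mem (inv_mem (hP hs)) (hN.conj_mem _ (hP hs') g), ?_⟩
    rw [mul_smul, inv_smul_eq_iff, mul_smul, mul_smul, sub_eq_iff_eq_add.1 e, sub_eq_iff_eq_add.1 e',
      smul_add, smul_inv_smul, add_comm]
  obtain ⟨a, ha', ha⟩ := key y₁ h1 h1'
  obtain ⟨b, hb', hb⟩ := key y₂ h2 h2'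
  exact ⟨b⁻¹ * a, mul_mem (inv_mem hb') ha', by rw [mul_smul, ha, ← hb, inv_smul_smul]⟩

theorem eq_top [Finite V] {g : G} {x₀ : V} (hx₀ : x₀ ∈ V₁) (hg : g • x₀ ∉ V₁) {R : AddSubgroup V}
    (hR : ∀ g : G, ∀ x ∈ R, g • x ∈ R) {r : V} (hr : r ∈ R) (hr0 : r ≠ 0) (x : V) : x ∈ R := by
  obtain ⟨r, hr, hr'⟩ : ∃ r ∈ R, r ∉ V₁ := by
    by_cases h1 : r ∈ V₁
    · exact ⟨g • r, hR g r hr, fun hc => hg (h.ti h1 hr0 hc hx₀)⟩
    · exact ⟨r, hr, h1⟩
  have h1 : ∀ y ∈ V₁, y ∈ R := fun y hy => by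
    obtain ⟨s, -, rfl⟩ := h.surj r hr' y hy
    exact sub_mem (hR s r hr) hr
  obtain ⟨y, hy, e⟩ := h.span hx₀ hg x
  simpa using add_mem (h1 _ e) (hR g y (h1 y hy))

end Sh

/-- Averaging over a subgroup of order prime to the exponent `p` of `V`. -/
theorem exists_avg [Finite G] [Fact p.Prime] (hV : ∀ x : V, p • x = 0) (J : Subgroup G)
    (hJ : ¬ p ∣ Nat.card J) : ∃ B : AddSubgroup V, (∀ j ∈ J, ∀ x, j • x - x ∈ B) ∧
      (∀ x ∈ B, (∀ j ∈ J, j • x = x) → x = 0) ∧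
      (∀ s : G, (∀ j ∈ J, s⁻¹ * j * s ∈ J) → ∀ x ∈ B, s • x ∈ B) ∧
      ∀ x, ∃ c, (∀ j ∈ J, j • c = c) ∧ x - c ∈ B := by
  classical
  have := Fintype.ofFinite J
  let N : V →+ V := ∑ j : J, DistribSMul.toAddMonoidHom V (j : G)
  have hN : ∀ x, N x = ∑ j : J, (j : G) • x := fun x => by
    simp [N, AddMonoidHom.finsetSum_apply]
  have h1 : ∀ j ∈ J, ∀ x, N (j • x) = N x := fun j hj x => by
    simp only [hN, ← mul_smul]
    exact Fintype.sum_equiv (Equiv.mulRight (⟨j, hj⟩ : J)) _ _ fun _ => rfl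
  have h2 : ∀ j ∈ J, ∀ x, j • N x = N x := fun j hj x => by
    simp only [hN, Finset.smul_sum, ← mul_smul]
    exact Fintype.sum_equiv (Equiv.mulLeft (⟨j, hj⟩ : J)) _ _ fun _ => rfl
  have h3 : ∀ x, (∀ j ∈ J, j • x = x) → N x = Nat.card J • x := fun x hx => by
    rw [hN, Finset.sum_congr rfl fun (j : J) _ => hx j j.2]
    simp
  obtain ⟨m, hm⟩ : ∃ m : ℕ, ∀ x : V, m • Nat.card J • x = x := by
    have hp : p.Prime := Fact.out
    obtain ⟨m, hm⟩ := Nat.exists_mul_mod_eq_one_of_coprime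
      ((hp.coprime_iff_not_dvd.2 hJ).symm) hp.one_lt
    refine ⟨m, fun x => ?_⟩
    rw [← mul_smul, mul_comm, ← Nat.div_add_mod (Nat.card J * m) p, hm.2, add_smul, mul_smul, hV]
    simp
  refine ⟨N.ker, fun j hj x => by simp [h1 j hj], fun x hx hx' => ?_, fun s hs x hx => ?_, fun x => ?_⟩
  · rw [← hm x, ← h3 x hx', show N x = 0 from hx, smul_zero]
  · have hi : Function.Injective fun j : J => (⟨s⁻¹ * j * s, hs j j.2⟩ : J) := fun a b e =>
      Subtype.ext (by simpa using congrArg Subtype.val e)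
    have : N (s • x) = s • N x := by
      simp only [hN, Finset.smul_sum, ← mul_smul]
      exact Fintype.sum_bijective _ (Finite.injective_iff_bijective.1 hi) _ _ fun j => by
        simp [mul_assoc]
    rw [AddMonoidHom.mem_ker, this, show N x = 0 from hx, smul_zero]
  · have h4 : ∀ j ∈ J, j • m • N x = m • N x := fun j hj => by rw [smul_comm, h2 j hj]
    refine ⟨m • N x, h4, ?_⟩
    rw [AddMonoidHom.mem_ker, map_sub, h3 _ h4, smul_comm, hm, sub_self]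

end Cfsg.Agent.SpF
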