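import Mathlib
import Cfsg.Agent.Fus.Heis
import Cfsg.Agent.Fus.RankRes
import Cfsg.Agent.SpF.Sh

/-! Tools for saturated fusion systems over a whole finite `p`-group. -/

set_option autoImplicit false
set_option linter.unusedSectionVars false

namespace Cfsg.Agent.SpF

open Subgroup Cfsg.FusionSystem Cfsg.Agent.Fus

/-- The action on a section. -/
theorem exists_act {H V : Type*} [Group H] [AddCommGroup V] (π : H → V)
    (hπ : ∀ x y, π (x * y) = π x + π y) (hs : Function.Surjective π) (𝒜 : Subgroup (MulAut H))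
    (hk : ∀ α ∈ 𝒜, ∀ x, π x = 0 → π (α x) = 0) :
    ∃ _ : DistribMulAction 𝒜 V, ∀ (α : 𝒜) x, α • π x = π ((α : MulAut H) x) := by
  have h1 : π 1 = 0 := by simpa using hπ 1 1
  choose σ hσ using hs
  have key : ∀ (α : 𝒜) x, π ((α : MulAut H) (σ (π x))) = π ((α : MulAut H) x) := fun α x => by
    have h2 : π ((σ (π x))⁻¹ * x) = 0 := by
      have := hπ (σ (π x)) ((σ (π x))⁻¹ * x)
      rwa [mul_inv_cancel_left, hσ, left_eq_add] at this
    have := hπ ((α : MulAut H) (σ (π x))) ((α : MulAut H) ((σ (π x))⁻¹ * x))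
    rw [← map_mul, mul_inv_cancel_left, hk α α.2 _ h2, add_zero] at this
    exact this.symm
  let _ : SMul 𝒜 V := ⟨fun α v => π ((α : MulAut H) (σ v))⟩
  have e : ∀ (α : 𝒜) x, α • π x = π ((α : MulAut H) x) := key
  refine ⟨{ one_smul v := hσ v
            mul_smul a b v := ?_
            smul_zero a := ?_
            smul_add a v w := ?_ }, e⟩
  · rw [← hσ v, e, e, e]; rfl
  · rw [← h1, e, map_one]
  · rw [← hσ v, ← hσ w, ← hπ, e, e, e, map_mul, hπ]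

variable {Ω : Type*} [Group Ω] [Finite Ω] {F : FusionSystem (⊤ : Subgroup Ω)} {p : ℕ}
  [hp : Fact p.Prime] {E : Subgroup Ω}

/-- The automorphisms of the whole group in the system. -/
def AS (F : FusionSystem (⊤ : Subgroup Ω)) : Subgroup (MulAut Ω) where
  carrier := {φ | IsMap F ⊤ φ}
  one_mem' := isMap_id F le_rfl
  mul_mem' ha hb := IsMap.comp' ha hb fun _ _ => mem_top _
  inv_mem' {φ} h := by
    have := IsMap.of_leftInv (g := (φ⁻¹ : MulAut Ω)) h fun x _ => φ.symm_apply_apply x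
    rwa [IsMap.img_eq_self h fun _ _ => mem_top _] at this

theorem conj_mem_AS (F : FusionSystem (⊤ : Subgroup Ω)) (g : Ω) : MulAut.conj g ∈ AS F :=
  isMap_conj F le_rfl (mem_top g)

theorem exists_AS {f : Ω → Ω} (hf : IsMap F ⊤ f) : ∃ φ ∈ AS F, ∀ x, φ x = f x :=
  ⟨MulEquiv.ofBijective (MonoidHom.mk' f fun x y => hf.map_mul trivial trivial)
    (Finite.injective_iff_bijective.1 fun x y e => hf.inj trivial trivial e), hf, fun _ => rfl⟩

theorem exists_res_AS {φ : MulAut Ω} (hφ : φ ∈ AS F) (h : ∀ x ∈ E, φ x ∈ E) :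
    ∃ α ∈ F.autGroup E, ∀ x ∈ E, afn α x = φ x :=
  IsMap.exists_aut' (IsMap.mono hφ le_top) h

variable (hS : IsPGroup p (⊤ : Subgroup Ω)) (hF : F.IsSaturated p)
include hS hF

theorem mem_of_pow_mem {φ : MulAut Ω} (hφ : φ ∈ AS F) (H : Subgroup (MulAut Ω))
    (hH : ∀ g, MulAut.conj g ∈ H) (h : φ ^ p ∈ H) : φ ∈ H := by
  have := finite_mulAut (S := (⊤ : Subgroup Ω)) le_rfl
  obtain ⟨α, hα, e⟩ := exists_res_AS (E := ⊤) hφ fun _ _ => trivial
  have h1 := (sat_sylIn_inn hS hF).not_dvd_relIndex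
  have h2 := pow_relIndex_mem (Inn (⊤ : Subgroup Ω)) hα
  generalize (Inn (⊤ : Subgroup Ω)).relIndex (F.autGroup ⊤) = n at h1 h2
  have h3 : ∀ n : ℕ, ∀ x, afn (α ^ n) x = (φ ^ n) x := fun n => by
    induction n with
    | zero => simp [afn_one]
    | succ n ih => intro x; rw [afn_pow _ _ (mem_top x), ih, e _ trivial, pow_succ']; rfl
  obtain ⟨g, -, hg⟩ := mem_Inn.1 h2
  have h4 : φ ^ n ∈ H := by
    rw [show φ ^ n = MulAut.conj g from MulEquiv.ext fun x => (h3 n x).symm.trans (hg x trivial)]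
    exact hH g
  obtain ⟨a, b, hab⟩ := Nat.isCoprime_iff_coprime.2 (hp.out.coprime_iff_not_dvd.2 h1)
  rw [← zpow_one φ, ← hab, zpow_add, mul_comm a, mul_comm b, zpow_mul, zpow_mul, zpow_natCast,
    zpow_natCast]
  exact mul_mem (zpow_mem h a) (zpow_mem h4 b)

theorem exists_syl (hE : F.IsEssential p E) {𝒜 : Subgroup (MulAut E)}
    (h1 : autInducedBy ⊤ E ≤ 𝒜) (h2 : 𝒜 ≤ F.autGroup E) : ∃ P : Sylow p 𝒜,
      ∀ s : 𝒜, s ∈ (P : Subgroup 𝒜) ↔ ∃ g, ∀ x : E, ((s : MulAut E) x : Ω) = g * x * g⁻¹ := by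
  obtain ⟨P, hP⟩ := SylIn.of_le (sat_fullyAutomized hS hF hE.2.1).2 h1 h2
  exact ⟨P, fun s => by simp [hP, mem_subgroupOf, mem_autInducedBy_iff]⟩

theorem not_norm (hE : F.IsEssential p E) :
    ¬ ∀ α ∈ F.autGroup E, ∀ s ∈ autInducedBy ⊤ E, α * s * α⁻¹ ∈ autInducedBy ⊤ E := fun h =>
  have ha := sat_fullyAutomized hS hF hE.2.1
  have hle := autInducedBy_le_autGroup F (le_top (a := E))
  (essential_cond hE ha).1 (radical_le_inn (radical_of_essential hS hE) (SylIn.isPGroup ha.2 hle) hle h)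

omit hF in
theorem mem_of_three (hE : F.IsEssential p E) {L M : Subgroup Ω}
    (hL : ∀ α ∈ F.autGroup E, ∀ y ∈ E, y ∈ L → afn α y ∈ L)
    (hM : ∀ α ∈ F.autGroup E, ∀ y ∈ E, y ∈ M → afn α y ∈ M) {x : Ω}
    (hx : ∀ y ∈ E, x * y * x⁻¹ ∈ E) (h0 : ∀ y ∈ E, y ∈ L → x * y * x⁻¹ * y⁻¹ = 1)
    (h1 : ∀ y ∈ E, y ∈ M → x * y * x⁻¹ * y⁻¹ ∈ L) (h2 : ∀ y ∈ E, x * y * x⁻¹ * y⁻¹ ∈ M) : x ∈ E := by
  refine mem_of_chain hS (isCentric_self hE.1) (radical_of_essential hS hE)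
    (fun i => match i with | 0 => ⊥ | 1 => L | 2 => M | _ => ⊤) 3 le_top (fun i hi => ?_)
    (fun α _ _ _ y hy h => by rw [mem_bot.1 h, (homOn_afn α).map_one])
    (mem_normalizerIn_of_conj trivial hx) fun i hi => ?_
  · interval_cases i
    exacts [fun α _ y hy h => by rw [mem_bot.1 h, (homOn_afn α).map_one]; exact one_mem _, hL, hM,
      fun _ _ _ _ _ => trivial]
  · interval_cases i
    exacts [h0, h1, fun y hy _ => h2 y hy]

theorem exists_ext (hE : F.IsEssential p E) (hn : ∀ g, ∀ x ∈ E, g * x * g⁻¹ ∈ E) {L M : Subgroup Ω}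
    (hLM : L ≤ M) (h0 : ∀ g, ∀ x ∈ L, g * x * g⁻¹ = x) (h1 : ∀ g, ∀ x ∈ M, x⁻¹ * (g * x * g⁻¹) ∈ L)
    (h2 : ∀ g, ∀ x ∈ E, x⁻¹ * (g * x * g⁻¹) ∈ M) {α : MulAut E} (hα : α ∈ F.autGroup E)
    (hL : ∀ x ∈ E, x ∈ L → afn α x ∈ L) (hM : ∀ x ∈ E, x ∈ M → afn α x ∈ M) :
    ∃ φ ∈ AS F, ∀ x ∈ E, φ x = afn α x := by
  have hA := autInducedBy_le_autGroup F (le_top (a := E))
  have hst : autInducedBy ⊤ E ≤ AC.stab3 (L.subgroupOf E) (M.subgroupOf E) (comap_mono hLM) := by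
    intro t ht
    obtain ⟨g, -, e⟩ := mem_autInducedBy_iff.1 ht
    exact ⟨fun y hy => Subtype.ext ((e y).trans (h0 g _ hy)), fun y hy => by
      simpa [mem_subgroupOf, e] using h1 g _ hy, fun y => by simpa [mem_subgroupOf, e] using h2 g _ y.2⟩
  obtain ⟨f, hf, e⟩ := sat_extend_of_centric (R := ⊤) hS hF ((mem_autGroup le_top).1 hα) hE.1
    fun s _ => have hs : s ∈ normalizerIn ⊤ E := mem_normalizerIn_of_conj trivial (hn s)
      mem_Nf_afn hs (AC.mem_of_stab3 (isPGroup_of_le hS le_top) (sat_fullyAutomized hS hF hE.2.1).2 hA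
      hst (mul_mem (mul_mem hα (hA (conjAut_mem_autInducedBy hs))) (inv_mem hα))
      (AC.conj_mem_stab3 (hst (conjAut_mem_autInducedBy hs))
        (fun g hg => by simpa [afn_coe, mem_subgroupOf] using hL g g.2 hg)
        fun g hg => by simpa [afn_coe, mem_subgroupOf] using hM g g.2 hg))
  obtain ⟨φ, h3, h4⟩ := exists_AS hf
  exact ⟨φ, h3, fun x hx => (h4 x).trans (e x hx)⟩

theorem isNormal_of_uniq {Q : Subgroup Ω} (h1 : ∀ E, F.IsEssential p E → E = Q)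
    (h2 : ∀ φ ∈ AS F, ∀ x ∈ Q, φ x ∈ Q) : F.IsNormal Q := by
  refine isNormal_of_essential hS hF ?_
  rintro R (rfl | hR)
  · refine ⟨le_top, fun g hg _ x hx => ?_⟩
    obtain ⟨φ, h3, h4⟩ := exists_AS hg
    exact h4 x ▸ h2 φ h3 x hx
  · obtain rfl := h1 R hR
    exact ⟨le_rfl, fun g _ hi x hx => hi ▸ mem_img_of_mem g hx⟩

theorem isRealizable_of_uniq {Q : Subgroup Ω} (hQ : ∀ x, (∀ y ∈ Q, y * x = x * y) → x ∈ Q)
    (h1 : ∀ E, F.IsEssential p E → E = Q) (h2 : ∀ φ ∈ AS F, ∀ x ∈ Q, φ x ∈ Q) : F.IsRealizable p :=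
  isRealizable_of_isNormal hS hF (isNormal_of_uniq hS hF h1 h2) fun x hx => hQ x hx.2

omit hS hF

/-- Invariance of a subgroup which meets `E` in the centre of `E`. -/
theorem inv_of_center {Z : Subgroup Ω} (h1 : ∀ z ∈ Z, ∀ y ∈ E, z * y = y * z)
    (h2 : ∀ z ∈ E, (∀ y ∈ E, z * y = y * z) → z ∈ Z) (α : MulAut E) {z : Ω} (hz : z ∈ E)
    (hz' : z ∈ Z) : afn α z ∈ Z := h2 _ (afn_mem α hz) fun y hy => by
  rw [← afn_afn_inv α hy, ← afn_map_mul α hz (afn_mem _ hy), h1 z hz' _ (afn_mem _ hy),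
    afn_map_mul α (afn_mem _ hy) hz]

theorem core_inv {α : MulAut E} (hα : α ∈ F.autGroup E) {x : Ω} (hx : x ∈ E) (hx' : x ∈ F.core) :
    afn α x ∈ F.core := by
  simpa [mem_subgroupOf, afn_apply α hx] using inv_subgroupOf_of_stronglyClosed le_top
    (stronglyClosed_of_isNormal (isNormal_core F)) α hα ⟨x, hx⟩ hx'

theorem core_conj (g : Ω) {x : Ω} (hx : x ∈ F.core) : g * x * g⁻¹ ∈ F.core :=
  conj_mem_of_mem_normalizerIn ((normalizerIn_eq_of_isNormal (isNormal_core F)).ge (mem_top g)) hx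

theorem mem_of_comm (hE : F.IsEssential p E) {x : Ω} (h : ∀ y ∈ E, y * x = x * y) : x ∈ E :=
  isCentric_self hE.1 ⟨trivial, h⟩

theorem pU (hΩ : IsPGroup p Ω) : IsPGroup p (⊤ : Subgroup Ω) := hΩ.to_subgroup _

section Transport

variable {Ω' : Type*} [Group Ω'] {S : Subgroup Ω'} {F' : FusionSystem S}

theorem exists_push (F' : FusionSystem S) (e : S ≃* Ω) : ∃ (F : FusionSystem (⊤ : Subgroup Ω))
    (a : Ω' → Ω) (b : Ω → Ω'), FIso F' F a b := by
  obtain ⟨b, h⟩ := gIso_of_injective e.toMonoidHom e.injective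
  rw [MonoidHom.range_eq_top.2 e.surjective] at h
  exact (exists_fIso F' h).imp fun _ h => ⟨_, _, h⟩

theorem exists_push' {F' : FusionSystem (⊤ : Subgroup Ω')} (e : Ω' ≃* Ω) :
    ∃ F : FusionSystem (⊤ : Subgroup Ω), FIso F' F e e.symm :=
  exists_fIso F' ⟨fun _ _ => trivial, fun _ _ => trivial, fun x _ => e.symm_apply_apply x,
    fun x _ => e.apply_symm_apply x, fun x _ y _ => map_mul e x y⟩

theorem isRealizable_of_push {a : Ω' → Ω} {b : Ω → Ω'} (h : FIso F' F a b) (hr : F.IsRealizable p) :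
    F'.IsRealizable p := by
  obtain ⟨G, _, _, ι, h1, h2⟩ := hr
  exact isRealizable_of_isRealizedBy (h.isRealizedBy h1) (by rwa [range_comp_equiv])

theorem core_ne_of_push {a : Ω' → Ω} {b : Ω → Ω'} (h : FIso F' F a b) (hc : F'.core ≠ ⊥) :
    F.core ≠ ⊥ := by
  rwa [← h.imX_core, Ne, h.g.imX_eq_bot_iff (core_le _)]

theorem center_iff_of_push {a : Ω' → Ω} {b : Ω → Ω'} (h : FIso F' F a b) :
    F.center = ⊥ ↔ F'.center = ⊥ := by
  rw [← h.imX_center, h.g.imX_eq_bot_iff (center_le _)]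

end Transport

end Cfsg.Agent.SpF
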