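import Mathlib
import Cfsg.Agent.SpF.Sh
import Cfsg.Agent.Solv.Coprime3

/-! A group acting on `K³` whose Sylow `p`-subgroup acts like the one of `Ω₃(K)` (`p` odd), with a
torus in its normaliser, and not normal, has no nonzero fixed vector. -/

set_option autoImplicit false
set_option linter.unusedSectionVars false

namespace Cfsg.Agent.SpF

open Subgroup Cfsg.Agent.Fus

theorem pow_fix {G V : Type*} [Group G] [AddCommGroup V] [DistribMulAction G V] {p : ℕ}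
    (hV : ∀ x : V, p • x = 0) {g : G} {x : V} (h : g • (g • x - x) = g • x - x) : g ^ p • x = x := by
  have : ∀ n : ℕ, g ^ n • x = x + n • (g • x - x) := fun n => by
    induction n with
    | zero => simp
    | succ n ih => rw [pow_succ', mul_smul, ih, smul_add, smul_comm g n, h, succ_nsmul]; abel
  rw [this, hV, add_zero]

/-- A frame: coordinates in which the Sylow subgroup `P` acts in the standard way. -/
structure Fr (p : ℕ) (K G V : Type*) [Field K] [Group G] [AddCommGroup V] [DistribMulAction G V] where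
  P : Sylow p G
  e : V ≃+ K × K × K
  τ : K → G
  mem : ∀ s, s ∈ (P : Subgroup G) ↔ ∃ t, τ t = s
  act : ∀ t x, e (τ t • x) =
    ((e x).1, (e x).2.1 + t * (e x).1, (e x).2.2 + 2 * t * (e x).2.1 + t ^ 2 * (e x).1)
  tor : ∀ l : K, l ≠ 0 → ∃ h : G, (∀ x, (e x).1 = 0 → (e x).2.1 = 0 → h • x = x) ∧
    (∀ x, (e x).1 = 0 → (e (h • x)).2.1 = l * (e x).2.1) ∧ ∀ x, (e (h • x)).1 = l ^ 2 * (e x).1

namespace Fr

variable {p : ℕ} {K G V : Type*} [Field K] [Group G] [AddCommGroup V] [DistribMulAction G V]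

/-- The conjugate frame. -/
def conj (f : Fr p K G V) (g : G) : Fr p K G V where
  P := g • f.P
  e := (DistribMulAction.toAddEquiv V g⁻¹).trans f.e
  τ t := g * f.τ t * g⁻¹
  mem s := by
    rw [mem_smul_sylow, f.mem]
    exact ⟨fun ⟨t, h⟩ => ⟨t, by rw [h]; group⟩, fun ⟨t, h⟩ => ⟨t, by rw [← h]; group⟩⟩
  act t x := by simpa [mul_smul] using f.act t (g⁻¹ • x)
  tor l hl := by
    obtain ⟨h, h1, h2, h3⟩ := f.tor l hl
    refine ⟨g * h * g⁻¹, fun x a b => ?_, fun x a => ?_, fun x => ?_⟩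
    · rw [mul_smul, mul_smul, h1 (g⁻¹ • x) a b, smul_inv_smul]
    · simpa [mul_smul] using h2 _ a
    · simpa [mul_smul] using h3 (g⁻¹ • x)

/-- The first coordinate. -/
def u (f : Fr p K G V) : V →+ K := (AddMonoidHom.fst _ _).comp f.e.toAddMonoidHom

/-- The second coordinate. -/
def v (f : Fr p K G V) : V →+ K :=
  (AddMonoidHom.fst _ _).comp ((AddMonoidHom.snd _ _).comp f.e.toAddMonoidHom)

/-- The third coordinate. -/
def w (f : Fr p K G V) : V →+ K :=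
  (AddMonoidHom.snd _ _).comp ((AddMonoidHom.snd _ _).comp f.e.toAddMonoidHom)

/-- The vector with given coordinates. -/
def mk' (f : Fr p K G V) (a b c : K) : V := f.e.symm (a, b, c)

/-- The middle term of the flag. -/
def Y (f : Fr p K G V) : AddSubgroup V := f.u.ker

/-- The bottom term of the flag. -/
def Z (f : Fr p K G V) : AddSubgroup V := f.u.ker ⊓ f.v.ker

variable (f : Fr p K G V)

theorem memY {x : V} : x ∈ f.Y ↔ f.u x = 0 := Iff.rfl
theorem memZ {x : V} : x ∈ f.Z ↔ f.u x = 0 ∧ f.v x = 0 := Iff.rfl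
theorem Z_le : f.Z ≤ f.Y := inf_le_left
@[simp] theorem u_mk (a b c : K) : f.u (f.mk' a b c) = a := by simp [u, mk']
@[simp] theorem v_mk (a b c : K) : f.v (f.mk' a b c) = b := by simp [v, mk']
@[simp] theorem w_mk (a b c : K) : f.w (f.mk' a b c) = c := by simp [w, mk']

theorem ext' {x y : V} (h1 : f.u x = f.u y) (h2 : f.v x = f.v y) (h3 : f.w x = f.w y) : x = y :=
  f.e.injective (Prod.ext h1 (Prod.ext h2 h3))

@[simp] theorem u_τ (t : K) (x : V) : f.u (f.τ t • x) = f.u x :=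
  (congrArg Prod.fst (f.act t x) :)
@[simp] theorem v_τ (t : K) (x : V) : f.v (f.τ t • x) = f.v x + t * f.u x :=
  congrArg (·.2.1) (f.act t x)
@[simp] theorem w_τ (t : K) (x : V) : f.w (f.τ t • x) = f.w x + 2 * t * f.v x + t ^ 2 * f.u x :=
  congrArg (·.2.2) (f.act t x)

theorem tor' {l : K} (hl : l ≠ 0) : ∃ h : G, (∀ x ∈ f.Z, h • x = x) ∧
    (∀ x ∈ f.Y, f.v (h • x) = l * f.v x) ∧ ∀ x, f.u (h • x) = l ^ 2 * f.u x := by
  obtain ⟨h, h1, h2, h3⟩ := f.tor l hl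
  exact ⟨h, fun x hx => h1 x hx.1 hx.2, h2, h3⟩

theorem conj_P (g : G) : (f.conj g).P = g • f.P := rfl
theorem memY_conj {g : G} {x : V} : x ∈ (f.conj g).Y ↔ g⁻¹ • x ∈ f.Y := Iff.rfl
theorem memZ_conj {g : G} {x : V} : x ∈ (f.conj g).Z ↔ g⁻¹ • x ∈ f.Z := Iff.rfl

theorem τ_mem (t : K) : f.τ t ∈ (f.P : Subgroup G) := (f.mem _).2 ⟨t, rfl⟩

variable {f}

theorem fixZ {s : G} (hs : s ∈ (f.P : Subgroup G)) {x : V} (hx : x ∈ f.Z) : s • x = x := by
  obtain ⟨t, rfl⟩ := (f.mem s).1 hs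
  exact f.ext' (by simp) (by simp [(f.memZ.1 hx).1]) (by simp [(f.memZ.1 hx).1, (f.memZ.1 hx).2])

theorem subY {s : G} (hs : s ∈ (f.P : Subgroup G)) (x : V) : s • x - x ∈ f.Y := by
  obtain ⟨t, rfl⟩ := (f.mem s).1 hs
  simp [memY]

theorem subZ {s : G} (hs : s ∈ (f.P : Subgroup G)) {x : V} (hx : x ∈ f.Y) : s • x - x ∈ f.Z := by
  obtain ⟨t, rfl⟩ := (f.mem s).1 hs
  simp [memZ, f.memY.1 hx]

end Fr

/-- The standing hypotheses. -/
structure OH (p : ℕ) (K G V : Type*) [Field K] [Group G] [AddCommGroup V] [DistribMulAction G V]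
    (r : V) : Prop where
  two : (2 : K) ≠ 0
  faith : ∀ g : G, (∀ x : V, g • x = x) → g = 1
  fix : ∀ g : G, g • r = r
  ne : r ≠ 0

namespace OH

variable {p : ℕ} [hp : Fact p.Prime] {K G V : Type*} [Field K] [Fintype K] [CharP K p] [Group G]
  [Finite G] [AddCommGroup V] [DistribMulAction G V] {r : V} (H : OH p K G V r)
  {f f' : Fr p K G V}

open Fr

theorem nsmul (f : Fr p K G V) (x : V) : p • x = 0 :=
  f.ext' (by simp) (by simp) (by simp)

include H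

theorem τ_add (f : Fr p K G V) (a b : K) : f.τ (a + b) = f.τ a * f.τ b := by
  rw [← mul_inv_eq_one]
  refine H.faith _ fun x => ?_
  obtain ⟨y, rfl⟩ : ∃ y, x = (f.τ a * f.τ b) • y := ⟨_, (smul_inv_smul _ x).symm⟩
  rw [mul_smul, inv_smul_smul, mul_smul]
  exact f.ext' (by simp) (by simp; ring) (by simp; ring)

theorem τ_zero (f : Fr p K G V) : f.τ 0 = 1 :=
  H.faith _ fun x => f.ext' (by simp) (by simp) (by simp)

theorem τ_ne (f : Fr p K G V) {t : K} (ht : t ≠ 0) : f.τ t ≠ 1 := fun e => by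
  have := f.v_τ t (f.mk' 1 0 0)
  rw [e] at this
  simp [ht.symm] at this

theorem pow_p {s : G} (hs : s ∈ (f.P : Subgroup G)) : s ^ p = 1 := by
  obtain ⟨t, rfl⟩ := (f.mem s).1 hs
  have : ∀ n : ℕ, f.τ t ^ n = f.τ (n * t) := fun n => by
    induction n with
    | zero => simp [H.τ_zero]
    | succ n ih => rw [pow_succ, ih, ← H.τ_add]; congr 1; push_cast; ring
  simp [this, H.τ_zero]

theorem comm {a b : G} (ha : a ∈ (f.P : Subgroup G)) (hb : b ∈ (f.P : Subgroup G)) :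
    a * b = b * a := by
  obtain ⟨t, rfl⟩ := (f.mem a).1 ha
  obtain ⟨t', rfl⟩ := (f.mem b).1 hb
  rw [← H.τ_add, ← H.τ_add, add_comm]

theorem two_tor (f : Fr p K G V) {x : V} (h : x = -x) : x = 0 := by
  have key : ∀ φ : V →+ K, φ x = φ 0 := fun φ => by
    have := congrArg φ h
    rw [map_neg] at this
    rw [map_zero]
    exact mul_left_cancel₀ H.two (by linear_combination this)
  exact f.ext' (key _) (key _) (key _)

theorem memZ_of_fix {s : G} (hs : s ∈ (f.P : Subgroup G)) (hs1 : s ≠ 1) {x : V} (hx : s • x = x) :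
    x ∈ f.Z := by
  obtain ⟨t, rfl⟩ := (f.mem s).1 hs
  have ht : t ≠ 0 := by rintro rfl; exact hs1 (H.τ_zero f)
  have h1 := f.v_τ t x
  have h2 := f.w_τ t x
  rw [hx] at h1 h2
  have h3 : f.u x = 0 := mul_left_cancel₀ ht (by linear_combination -h1)
  exact ⟨h3, mul_left_cancel₀ (mul_ne_zero H.two ht) (by rw [h3] at h2; linear_combination -h2)⟩

theorem surjZ {y z : V} (hy : y ∈ f.Y) (hy' : y ∉ f.Z) (hz : z ∈ f.Z) :
    ∃ s ∈ (f.P : Subgroup G), s • y - y = z := by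
  have h1 := f.memY.1 hy
  have h2 : f.v y ≠ 0 := fun e => hy' ⟨h1, e⟩
  have h3 := H.two
  refine ⟨f.τ (f.w z / (2 * f.v y)), f.τ_mem _, f.ext' ?_ ?_ ?_⟩
  · simp [(f.memZ.1 hz).1]
  · simp [(f.memZ.1 hz).2, h1]
  · simp [h1]; field_simp

theorem surjY {s : G} (hs : s ∈ (f.P : Subgroup G)) (hs1 : s ≠ 1) {y : V} (hy : y ∈ f.Y) :
    ∃ x, s • x - x = y := by
  obtain ⟨t, rfl⟩ := (f.mem s).1 hs
  have ht : t ≠ 0 := by rintro rfl; exact hs1 (H.τ_zero f)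
  have h3 := H.two
  refine ⟨f.mk' (f.v y / t) ((f.w y - t * f.v y) / (2 * t)) 0, f.ext' ?_ ?_ ?_⟩
  · simp [f.memY.1 hy]
  · simp; field_simp
  · simp; field_simp; ring

theorem r_mem (f : Fr p K G V) : r ∈ f.Z :=
  H.memZ_of_fix (f.τ_mem 1) (H.τ_ne f one_ne_zero) (H.fix _)

theorem eq_of_pow {M : Subgroup G} {k : ℕ} (hM : ∀ g ∈ M, g ^ p ^ k = 1) {P : Sylow p G}
    (hP : (P : Subgroup G) ≤ M) : M = P :=
  P.is_maximal' (fun g => ⟨k, Subtype.ext (hM g g.2)⟩) hP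

theorem stab {g : G} (h1 : ∀ x ∈ f.Z, g • x = x) (h2 : ∀ x ∈ f.Y, g • x - x ∈ f.Z)
    (h3 : ∀ x, g • x - x ∈ f.Y) : g ∈ (f.P : Subgroup G) := by
  let M : Subgroup G :=
    { carrier := {g | (∀ x ∈ f.Z, g • x = x) ∧ (∀ x ∈ f.Y, g • x - x ∈ f.Z) ∧ ∀ x, g • x - x ∈ f.Y}
      one_mem' := by simp
      mul_mem' := by
        rintro a b ⟨a1, a2, a3⟩ ⟨b1, b2, b3⟩
        have e : ∀ x : V, (a * b) • x - x = (a • (b • x - x) - (b • x - x)) + (b • x - x) +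
          (a • x - x) := fun x => by rw [mul_smul, smul_sub]; abel
        refine ⟨fun x hx => by rw [mul_smul, b1 x hx, a1 x hx], fun x hx => ?_, fun x => ?_⟩
        · rw [e]; exact add_mem (add_mem (a2 _ (f.Z_le (b2 x hx))) (b2 x hx)) (a2 x hx)
        · rw [e]; exact add_mem (add_mem (a3 _) (b3 x)) (a3 x)
      inv_mem' := by
        rintro a ⟨a1, a2, a3⟩
        have e : ∀ x : V, a⁻¹ • x - x = -(a • a⁻¹ • x - a⁻¹ • x) := fun x => by simp
        have b3 : ∀ x : V, a⁻¹ • x - x ∈ f.Y := fun x => by rw [e]; exact neg_mem (a3 _)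
        refine ⟨fun x hx => by rw [inv_smul_eq_iff, a1 x hx], fun x hx => ?_, b3⟩
        rw [e]
        exact neg_mem (a2 _ (by simpa using add_mem (b3 x) hx)) }
  have hM : M = f.P := H.eq_of_pow (k := 2) (fun g hg => H.faith _ fun x => by
    rw [sq, pow_mul]
    exact pow_fix (nsmul f) (pow_fix (nsmul f) (hg.1 _ (hg.2.1 _ ((pow_mem hg p).2.2 x)))))
    fun s hs => ⟨fun x hx => fixZ hs hx, fun x hx => subZ hs hx, subY hs⟩
  exact hM.le ⟨h1, h2, h3⟩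

theorem eq_of_flag (h1 : f.Z = f'.Z) (h2 : f.Y = f'.Y) : f.P = f'.P :=
  Sylow.ext (f'.P.is_maximal' f.P.isPGroup' fun s hs => H.stab (fun x hx => fixZ hs (h1 ▸ hx))
    (fun x hx => h1 ▸ subZ hs (h2 ▸ hx)) fun x => h2 ▸ subY hs x)

theorem flag_of_mem {s : G} (hs : s ∈ (f.P : Subgroup G)) (hs' : s ∈ (f'.P : Subgroup G))
    (hs1 : s ≠ 1) : f.Z = f'.Z ∧ f.Y = f'.Y := by
  refine ⟨le_antisymm (fun x hx => H.memZ_of_fix hs' hs1 (fixZ hs hx))
    fun x hx => H.memZ_of_fix hs hs1 (fixZ hs' hx), le_antisymm (fun x hx => ?_) fun x hx => ?_⟩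
  · obtain ⟨y, rfl⟩ := H.surjY hs hs1 hx
    exact subY hs' y
  · obtain ⟨y, rfl⟩ := H.surjY hs' hs1 hx
    exact subY hs y

theorem ti {s : G} (hs : s ∈ (f.P : Subgroup G)) (hs' : s ∈ (f'.P : Subgroup G)) (hs1 : s ≠ 1) :
    f.P = f'.P :=
  H.eq_of_flag (H.flag_of_mem hs hs' hs1).1 (H.flag_of_mem hs hs' hs1).2

theorem Y_eq (h : f.P = f'.P) : f.Y = f'.Y :=
  (H.flag_of_mem (f.τ_mem 1) (h ▸ f.τ_mem 1) (H.τ_ne f one_ne_zero)).2

theorem memZ_of (f f' : Fr p K G V) {y : V} (hy' : y ∈ f'.Z) (hy : y ∈ f.Y) : y ∈ f.Z := by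
  by_contra hc
  obtain ⟨s, hs, e⟩ := H.surjZ hy hc (H.r_mem f)
  exact H.ne (eq_zero_of_step f'.P (fun _ h => fixZ h hy') (fun _ _ => H.fix _) (pElt_of_mem _ hs)
    (H.fix _) e)

theorem not_dvd {y : V} (hy : y ∈ f.Y) (hy' : y ∉ f.Z) {J : Subgroup G} (hJ : ∀ j ∈ J, j • y = y) :
    ¬ p ∣ Nat.card J := fun hd => by
  obtain ⟨s, hs⟩ := exists_prime_orderOf_dvd_card' p hd
  have hs' : orderOf (s : G) = p := by rwa [Subgroup.orderOf_coe]
  obtain ⟨Q, hQ⟩ := (IsPGroup.of_card (p := p) (n := 1) (G := zpowers (s : G))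
    (by rw [Nat.card_zpowers, hs', pow_one])).exists_le_sylow
  obtain ⟨g, rfl⟩ := MulAction.exists_smul_eq G f.P Q
  exact hy' (H.memZ_of f (f.conj g) (H.memZ_of_fix (hQ (mem_zpowers _))
    (fun e => hp.out.one_lt.ne' (by rw [← hs', e, orderOf_one])) (hJ s s.2)) hy)

end OH

section MJ

variable (G : Type*) {V : Type*} [Group G] [AddCommGroup V] [DistribMulAction G V]

/-- Elements fixing `D` pointwise and moving `y` inside `y + D`. -/
def Mg (D : AddSubgroup V) (y : V) : Subgroup G where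
  carrier := {g | (∀ d ∈ D, g • d = d) ∧ g • y - y ∈ D}
  one_mem' := by simp
  mul_mem' := by
    rintro a b ⟨a1, a2⟩ ⟨b1, b2⟩
    refine ⟨fun d hd => by rw [mul_smul, b1 d hd, a1 d hd], ?_⟩
    have : (a * b) • y - y = a • (b • y - y) + (a • y - y) := by rw [mul_smul, smul_sub]; abel
    rw [this, a1 _ b2]
    exact add_mem b2 a2
  inv_mem' := by
    rintro a ⟨a1, a2⟩
    have h1 : ∀ d ∈ D, a⁻¹ • d = d := fun d hd => by rw [inv_smul_eq_iff, a1 d hd]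
    refine ⟨h1, ?_⟩
    have : a⁻¹ • y - y = -(a⁻¹ • (a • y - y)) := by rw [smul_sub, inv_smul_smul]; abel
    rw [this, h1 _ a2]
    exact neg_mem a2

/-- Elements fixing `D` pointwise and `y`. -/
def Jg (D : AddSubgroup V) (y : V) : Subgroup G := Mg G D y ⊓ MulAction.stabilizer G y

variable {G}

theorem Jg_conj {D : AddSubgroup V} {y : V} {s : G} (hs : s ∈ Mg G D y) :
    ∀ j ∈ Jg G D y, s⁻¹ * j * s ∈ Jg G D y := fun j hj => by
  refine ⟨(Mg G D y).mul_mem (mul_mem (inv_mem hs) hj.1) hs, ?_⟩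
  show (s⁻¹ * j * s) • y = y
  rw [mul_smul, mul_smul, inv_smul_eq_iff, sub_eq_iff_eq_add.1 (rfl : s • y - y = _), smul_add,
    hj.1.1 _ hs.2, show j • y = y from hj.2]

theorem Jg_mem {D : AddSubgroup V} {y : V} {s s' : G} (hs : s ∈ Mg G D y) (hs' : s' ∈ Mg G D y)
    (e : s • y - y = s' • y - y) : s⁻¹ * s' ∈ Jg G D y := by
  refine ⟨(Mg G D y).mul_mem (inv_mem hs) hs', ?_⟩
  show (s⁻¹ * s') • y = y
  rw [mul_smul, inv_smul_eq_iff, sub_left_inj.1 e]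

end MJ

namespace OH

variable {p : ℕ} [hp : Fact p.Prime] {K G V : Type*} [Field K] [Fintype K] [CharP K p] [Group G]
  [Finite G] [AddCommGroup V] [DistribMulAction G V] {r : V} (H : OH p K G V r)
  {f f' : Fr p K G V}

open Fr

include H

theorem eq_of_Y (hZ : f.Z = f'.Z) {y : V} (hy : y ∈ f.Y) (hy' : y ∈ f'.Y) (hz : y ∉ f.Z) :
    f.P = f'.P := by
  obtain ⟨B, b1, b2, b3, -⟩ := exists_avg (nsmul f) (Jg G f.Z y) (H.not_dvd hy hz fun j hj => hj.2)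
  have m1 : ∀ s ∈ (f.P : Subgroup G), s ∈ Mg G f.Z y := fun s hs =>
    ⟨fun d hd => fixZ hs hd, subZ hs hy⟩
  have m2 : ∀ s ∈ (f'.P : Subgroup G), s ∈ Mg G f.Z y := fun s hs =>
    ⟨fun d hd => fixZ hs (hZ ▸ hd), hZ ▸ subZ hs hy'⟩
  have hs := f.τ_mem 1
  have k1 : ∀ x ∈ B, f.τ 1 • x - x ∈ B := fun x hx => sub_mem (b3 _ (Jg_conj (m1 _ hs)) x hx) hx
  have k2 : ∀ x ∈ B, x ∈ f.Z → x = 0 := fun x hx hx' => b2 x hx fun j hj => hj.1.1 x hx'
  have k3 : ∀ x ∈ B, f.τ 1 • x - x = 0 → x = 0 := fun x hx e =>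
    k2 x hx (H.memZ_of_fix hs (H.τ_ne f one_ne_zero) (sub_eq_zero.1 e))
  have hM : ∀ g ∈ Mg G f.Z y, g ^ p ^ 1 = 1 := fun g hg => H.faith _ fun x => by
    have h1 : g ^ p ^ 1 ∈ Jg G f.Z y :=
      ⟨pow_mem hg _, by rw [pow_one]; exact pow_fix (nsmul f) (hg.1 _ hg.2)⟩
    have h2 := b1 _ h1 x
    exact sub_eq_zero.1 (k3 _ h2 (k3 _ (k1 _ h2) (k2 _ (k1 _ (k1 _ h2)) (subZ hs (subY hs _)))))
  exact Sylow.ext ((H.eq_of_pow hM m1).symm.trans (H.eq_of_pow hM m2))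

omit H in
theorem span (h : ∀ y ∈ f.Y, y ∈ f'.Y → y ∈ f'.Z) (x : V) : ∃ b, x - f'.mk' 0 b 0 ∈ f.Y := by
  have hi : Function.Injective fun b => f.u (f'.mk' 0 b 0) := fun a b e => by
    have := h (f'.mk' 0 a 0 - f'.mk' 0 b 0) (by rw [memY, map_sub]; exact sub_eq_zero.2 e)
      (by simp [memY])
    simpa [memZ, sub_eq_zero] using this
  obtain ⟨b, hb⟩ := Finite.injective_iff_surjective.1 hi (f.u x)
  exact ⟨b, by rw [memY, map_sub]; exact sub_eq_zero.2 hb.symm⟩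

omit H in
theorem Z_eq (h : f'.Z ≤ f.Z) : f.Z = f'.Z := by
  refine le_antisymm (fun x hx => ?_) h
  have h1 : ∀ c, f'.mk' 0 0 c ∈ f'.Z := fun c => by simp [memZ]
  have h2 : ∀ {a b : V}, a ∈ f.Z → b ∈ f.Z → f.w a = f.w b → a = b := fun ha hb e =>
    f.ext' (by rw [(f.memZ.1 ha).1, (f.memZ.1 hb).1]) (by rw [(f.memZ.1 ha).2, (f.memZ.1 hb).2]) e
  have hi : Function.Injective fun c => f.w (f'.mk' 0 0 c) := fun a b e => by
    simpa using congrArg f'.w (h2 (h (h1 a)) (h (h1 b)) e)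
  obtain ⟨c, hc⟩ := Finite.injective_iff_surjective.1 hi (f.w x)
  exact h2 (h (h1 c)) hx hc ▸ h1 c

theorem exists_inv (hZ : f.Z = f'.Z) (hne : f.P ≠ f'.P) : ∃ h : G, (∀ x ∈ f.Z, h • x = x) ∧
    (∀ x ∈ f.Y, h • x + x ∈ f.Z) ∧ ∀ x ∈ f'.Y, h • x - x ∈ f.Z := by
  have hY : ∀ y ∈ f.Y, y ∈ f'.Y → y ∈ f.Z := fun y a b => by_contra fun c => hne (H.eq_of_Y hZ a b c)
  obtain ⟨h, h1, h2, h3⟩ := f.tor' (neg_ne_zero.2 one_ne_zero)
  simp only [even_two, Even.neg_pow, one_pow, one_mul, neg_mul] at h2 h3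
  set x := f'.mk' 0 1 0 with hx
  have x1 : x ∈ f'.Y := by simp [memY, hx]
  have x2 : x ∉ f'.Z := by simp [memZ, hx]
  have x3 : f.u x ≠ 0 := fun e => x2 (hZ ▸ hY x e x1)
  have h4 := H.two
  obtain ⟨s, hs, e⟩ : ∃ s ∈ (f.P : Subgroup G), (s * h * s⁻¹) • x - x ∈ f.Z := by
    refine ⟨f.τ ((f.v x - f.v (h • x)) / (2 * f.u x)), f.τ_mem _, ?_⟩
    set c := (f.v x - f.v (h • x)) / (2 * f.u x) with hc
    have h5 : (f.τ c)⁻¹ = f.τ (-c) := by
      rw [inv_eq_iff_mul_eq_one, ← H.τ_add, add_neg_cancel, H.τ_zero]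
    have h6 := h2 _ (subY (f.τ_mem (-c)) x)
    rw [smul_sub, map_sub, map_sub, v_τ] at h6
    rw [h5, mul_smul, mul_smul, memZ, map_sub, map_sub, u_τ, v_τ, h3, u_τ, sub_eq_iff_eq_add.1 h6]
    refine ⟨sub_self _, ?_⟩
    rw [hc]; field_simp; ring
  have k1 : ∀ z ∈ f.Z, (s * h * s⁻¹) • z = z := fun z hz => by
    rw [mul_smul, mul_smul, fixZ (inv_mem hs) hz, h1 z hz, fixZ hs hz]
  have k2 : ∀ z, (s * h * s⁻¹) • z - z ∈ f.Y := fun z => by
    have a1 := f.memY.1 (subY (inv_mem hs) z)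
    have a2 := f.memY.1 (subY hs (h • s⁻¹ • z))
    rw [map_sub] at a1 a2
    rw [memY, mul_smul, mul_smul, map_sub, sub_eq_zero.1 a2, h3, a1]
  set k := s * h * s⁻¹ with hk
  have k3 : (f'.conj k).Z = f'.Z := Z_eq fun z hz => by
    rw [memZ_conj, inv_smul_eq_iff.2 (k1 z (hZ ▸ hz)).symm]
    exact hz
  have k4 : k • x ∈ f'.Y := by
    have e' : k • x - x ∈ f'.Y := f'.Z_le (hZ ▸ e)
    simpa using add_mem e' x1
  have k5 := H.Y_eq (H.eq_of_Y k3 (y := k • x) (by simpa [memY_conj] using x1) k4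
    (by simpa [memZ_conj] using x2))
  refine ⟨k, k1, fun z hz => ?_, fun z hz => hY _ (k2 z) (sub_mem ?_ hz)⟩
  · have a1 := subZ (inv_mem hs) hz
    have a2 : s⁻¹ • z ∈ f.Y := by simpa using add_mem (f.Z_le a1) hz
    have a3 : h • s⁻¹ • z ∈ f.Y := by rw [memY, h3]; exact a2
    have a4 : h • s⁻¹ • z + s⁻¹ • z ∈ f.Z := by
      rw [memZ, map_add, map_add, h2 _ a2, f.memY.1 a2, f.memY.1 a3]; simp
    have : k • z + z = (s • h • s⁻¹ • z - h • s⁻¹ • z) + (h • s⁻¹ • z + s⁻¹ • z) - (s⁻¹ • z - z) := by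
      rw [hk, mul_smul, mul_smul]; abel
    rw [this]
    exact sub_mem (add_mem (subZ hs a3) a4) a1
  · rw [← k5, memY_conj, inv_smul_smul]
    exact hz

theorem eq_of_Z (hZ : f.Z = f'.Z) : f.P = f'.P := by
  by_contra hne
  obtain ⟨a, a1, a2, a3⟩ := H.exists_inv hZ hne
  obtain ⟨b, b1, b2, b3⟩ := H.exists_inv hZ.symm (Ne.symm hne)
  rw [← hZ] at b1 b2 b3
  have z1 : ∀ x ∈ f.Z, (a * b) • x = x := fun x hx => by rw [mul_smul, b1 x hx, a1 x hx]
  have z2 : ∀ x, (a * b) • x + x ∈ f.Z := fun x => by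
    obtain ⟨c, hc⟩ := span (f := f) (f' := f')
      (fun y h1 h2 => hZ ▸ by_contra fun h3 => hne (H.eq_of_Y hZ h1 h2 h3)) x
    have h1 : f'.mk' 0 c 0 ∈ f'.Y := by simp [memY]
    generalize f'.mk' 0 c 0 = y at hc h1
    have : (a * b) • x + x = a • (b • (x - y) - (x - y)) + (a • (x - y) + (x - y)) +
        a • (b • y + y) - (a • y - y) := by
      simp only [mul_smul, smul_sub, smul_add]; abel
    rw [this, a1 _ (b3 _ hc), a1 _ (b2 _ h1)]
    exact sub_mem (add_mem (add_mem (b3 _ hc) (a2 _ hc)) (b2 _ h1)) (a3 _ h1)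
  generalize a * b = z at z1 z2
  have y1 : f.mk' 0 1 0 ∈ f.Y := by simp [memY]
  obtain ⟨s, hs, e⟩ := H.surjZ y1 (by simp [memZ]) (H.r_mem f)
  generalize f.mk' 0 1 0 = y at y1 e
  have z3 : ∀ x, z⁻¹ • x + x ∈ f.Z := fun x => by simpa [add_comm] using z2 (z⁻¹ • x)
  have z4 : ∀ x ∈ f.Z, z⁻¹ • x = x := fun x hx => by rw [inv_smul_eq_iff, z1 x hx]
  have c1 : ∀ x, (z⁻¹ * s⁻¹ * z * s) • x - x ∈ f.Z := fun x => by
    have : (z⁻¹ * s⁻¹ * z * s) • x - x = z⁻¹ • s⁻¹ • (z • s • x + s • x) - (z⁻¹ • x + x) := by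
      simp only [mul_smul, smul_add, inv_smul_smul]; abel
    rw [this, fixZ (inv_mem hs) (z2 _), z4 _ (z2 _)]
    exact sub_mem (z2 _) (z3 x)
  obtain ⟨t, ht⟩ := (f.mem _).1 (H.stab (fun x hx => by
    rw [mul_smul, mul_smul, mul_smul, fixZ hs hx, z1 x hx, fixZ (inv_mem hs) hx, z4 x hx])
    (fun x _ => c1 x) fun x => f.Z_le (c1 x))
  have t0 : t = 0 := by simpa [← ht, memZ] using c1 (f.mk' 1 0 0)
  have c2 : z * s = s * z := by
    rw [t0, H.τ_zero] at ht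
    calc z * s = s * z * (z⁻¹ * s⁻¹ * z * s) := by group
      _ = s * z := by rw [← ht, mul_one]
  have c3 : z • s • y = s • z • y := by rw [← mul_smul, c2, mul_smul]
  have c4 := fixZ hs (z2 y)
  refine H.ne (H.two_tor f ?_)
  rw [sub_eq_iff_eq_add.1 e, smul_add, H.fix] at c3
  rw [smul_add, ← c3, sub_eq_iff_eq_add.1 e] at c4
  rw [eq_neg_iff_add_eq_zero, ← add_left_inj (z • y + y), zero_add]
  exact Eq.trans (by abel) c4

theorem exists_Y (hne : f.P ≠ f'.P) : ∃ y ∈ f.Y, y ∈ f'.Y ∧ y ∉ f.Z ∧ y ∉ f'.Z := by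
  by_contra hc
  push Not at hc
  have h1 : ∀ y ∈ f.Y, y ∈ f'.Y → y ∈ f'.Z := fun y a b => by_contra fun c =>
    c (hc y a b fun d => c (H.memZ_of f' f d b))
  refine hne (H.eq_of_Z (Z_eq fun x hx => ?_))
  obtain ⟨b, hb⟩ := span h1 x
  have h2 := h1 _ hb (sub_mem (f'.Z_le hx) (by simp [memY]))
  have h3 : f'.mk' 0 b 0 = 0 := by
    have : b = 0 := by simpa [(f'.memZ.1 hx).2] using (f'.memZ.1 h2).2
    exact f'.ext' (by simp) (by simp [this]) (by simp)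
  exact H.memZ_of f f' hx (by simpa [h3] using hb)

theorem mem_of_norm {s : G} (hs : s ∈ (f'.P : Subgroup G))
    (h : s ∈ normalizer ((f.P : Subgroup G) : Set G)) : s ∈ (f.P : Subgroup G) :=
  mem_of_pElt f.P le_rfl le_normalizer (fun _ hm x hx => (mem_normalizer_iff.1 hm x).1 hx) h
    (pElt_of_mem _ hs)

theorem index_sup (hne : f.P ≠ f'.P) : (f'.Y ⊔ f.Y).index = p := by
  obtain ⟨y, y1, y2, y3, y4⟩ := H.exists_Y hne
  have rD : r ∈ f.Z ⊓ f'.Z := ⟨H.r_mem f, H.r_mem f'⟩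
  obtain ⟨s, hs, e⟩ := H.surjZ y1 y3 rD.1
  obtain ⟨s', hs', e'⟩ := H.surjZ y2 y4 rD.2
  have m1 : s ∈ Mg G (f.Z ⊓ f'.Z) y := ⟨fun d hd => fixZ hs hd.1, e ▸ rD⟩
  have m2 : s' ∈ Mg G (f.Z ⊓ f'.Z) y := ⟨fun d hd => fixZ hs' hd.2, e' ▸ rD⟩
  have hj := Jg_mem m1 m2 (e.trans e'.symm)
  have s1 : s ≠ 1 := fun h => H.ne (by rw [← e, h, one_smul, sub_self])
  have s1' : s' ≠ 1 := fun h => H.ne (by rw [← e', h, one_smul, sub_self])
  have hJ := H.not_dvd y1 y3 (J := Jg G (f.Z ⊓ f'.Z) y) fun j hj => hj.2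
  have t1 : f'.Y ⊔ f.Y ≠ ⊤ := fun ht => by
    obtain ⟨B, b1, b2, b3, b4⟩ := exists_avg (nsmul f) _ hJ
    have key : ∀ c, (∀ j ∈ Jg G (f.Z ⊓ f'.Z) y, j • c = c) →
        ∃ c', (∀ j ∈ Jg G (f.Z ⊓ f'.Z) y, j • c' = c') ∧ s • c' - c' = c := fun c hc => by
      obtain ⟨a, ha, b, hb, rfl⟩ := AddSubgroup.mem_sup.1 (ht ▸ AddSubgroup.mem_top c)
      obtain ⟨a, rfl⟩ := H.surjY hs' s1' ha
      obtain ⟨b, rfl⟩ := H.surjY hs s1 hb
      obtain ⟨a', a1, a2⟩ := b4 a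
      obtain ⟨b', b1', b2'⟩ := b4 b
      have h1 : ∀ j ∈ Jg G (f.Z ⊓ f'.Z) y, j • (a' + b') = a' + b' := fun j hj => by
        rw [smul_add, a1 j hj, b1' j hj]
      refine ⟨a' + b', h1, (sub_eq_zero.1 (b2 _ ?_ fun j hj => ?_)).symm⟩
      · have h2 : s' • a' = s • a' := by rw [← inv_smul_eq_iff, ← mul_smul, a1 _ hj]
        have : s' • a - a + (s • b - b) - (s • (a' + b') - (a' + b')) =
            s' • (a - a') - (a - a') + (s • (b - b') - (b - b')) := by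
          simp only [smul_add, smul_sub, h2]; abel
        rw [this]
        exact add_mem (sub_mem (b3 _ (Jg_conj m2) _ a2) a2) (sub_mem (b3 _ (Jg_conj m1) _ b2') b2')
      · have h2 := h1 _ (Jg_conj m1 j hj)
        rw [mul_smul, mul_smul, inv_smul_eq_iff] at h2
        rw [smul_sub, smul_sub, hc j hj, h1 j hj, h2]
    obtain ⟨c1, a1, e1⟩ := key r fun j _ => H.fix j
    obtain ⟨c2, a2, e2⟩ := key c1 a1
    obtain ⟨c3, -, e3⟩ := key c2 a2
    exact H.ne (by rw [← e1, fixZ hs (e2 ▸ subZ hs (e3 ▸ subY hs c3)), sub_self])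
  let A : Subgroup G := Mg G (f.Z ⊓ f'.Z) y ⊓ f.P
  have hA : IsCyclic A := by
    by_contra hA
    have : IsMulCommutative A := ⟨⟨fun a b => Subtype.ext (H.comm a.2.2 b.2.2)⟩⟩
    obtain ⟨n, hn⟩ := IsPGroup.iff_card.1 (f.P.isPGroup'.to_le (inf_le_right : A ≤ _))
    have := Solv.le_of_centralizers_le A (Jg G (f.Z ⊓ f'.Z) y) hA
      (fun a ha => mem_normalizer_iff.2 fun j => ⟨fun hj => by
        simpa using Jg_conj (inv_mem ha.1) j hj, fun hj => by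
        simpa [mul_assoc] using Jg_conj ha.1 _ hj⟩)
      (hn ▸ (hp.out.coprime_iff_not_dvd.2 hJ).pow_left n) (normalizer ((f.P : Subgroup G) : Set G))
      fun a ha a1 j hj => Sylow.smul_eq_iff_mem_normalizer.1 (H.ti (f := f.conj j) (f' := f)
        ((mem_smul_sylow _ _ _).2 (by
          rw [mul_assoc, mem_centralizer_singleton_iff.1 hj.2 |>.symm, inv_mul_cancel_left]
          exact ha.2)) ha.2 a1)
    exact hne (H.ti (H.mem_of_norm hs' (by simpa using mul_mem (le_normalizer hs) (this hj))) hs' s1')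
  have hA' : Nat.card A ≤ p := by
    rw [← IsCyclic.exponent_eq_card]
    exact Nat.le_of_dvd hp.out.pos (Monoid.exponent_dvd_of_forall_pow_eq_one fun a =>
      Subtype.ext (H.pow_p a.2.2))
  let φ : K →+ K := f.u.comp (f'.e.symm.toAddMonoidHom.comp
    ((AddMonoidHom.inr K (K × K)).comp (AddMonoidHom.inr K K)))
  have hφ : ∀ c, φ c = f.u (f'.mk' 0 0 c) := fun c => rfl
  have z1 : ∀ c, f'.mk' 0 0 c ∈ f'.Z := fun c => by simp [memZ]
  have t2 : Nat.card φ.ker ≤ p := by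
    have : ∀ c : φ.ker, ∃ a : A, (a : G) • y - y = f'.mk' 0 0 c := fun c => by
      have h1 := H.memZ_of f f' (z1 c) c.2
      obtain ⟨a, ha, e⟩ := H.surjZ y1 y3 h1
      exact ⟨⟨a, ⟨fun d hd => fixZ ha hd.1, e ▸ ⟨h1, z1 c⟩⟩, ha⟩, e⟩
    choose g hg using this
    refine (Nat.card_le_card_of_injective g fun a b h => Subtype.ext ?_).trans hA'
    have h1 : f'.mk' 0 0 a = f'.mk' 0 0 b := by rw [← hg a, ← hg b, h]
    simpa using congrArg f'.w h1
  have hu : Function.Surjective f.u := fun a => ⟨f.mk' a 0 0, by simp⟩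
  have t3 : (f'.Y.map f.u).comap f.u = f'.Y ⊔ f.Y := AddSubgroup.comap_map_eq _ _
  have t4 : (f'.Y ⊔ f.Y).index = (f'.Y.map f.u).index := by
    rw [← t3, AddSubgroup.index_comap_of_surjective _ hu]
  have t5 : (f'.Y.map f.u).index ∣ Nat.card φ.ker := by
    rw [← AddSubgroup.index_range]
    exact AddSubgroup.index_dvd_of_le (by rintro _ ⟨c, rfl⟩; exact ⟨_, f'.Z_le (z1 c), rfl⟩)
  obtain ⟨n, -, hn⟩ := FiniteField.card K p
  obtain ⟨k, -, hk⟩ := (Nat.dvd_prime_pow hp.out).1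
    (hn ▸ Nat.card_eq_fintype_card (α := K) ▸ (f'.Y.map f.u).index_dvd_card)
  refine le_antisymm (t4 ▸ (Nat.le_of_dvd Nat.card_pos t5).trans t2) ?_
  rcases k with _ | k
  · exact absurd (AddSubgroup.index_eq_one.1 (t4.trans hk)) t1
  · rw [t4, hk]
    exact Nat.le_self_pow k.succ_ne_zero p

theorem sylow_eq (f : Fr p K G V) (Q : Sylow p G) : Q = f.P := by
  by_contra hQ
  obtain ⟨g, rfl⟩ := MulAction.exists_smul_eq G f.P Q
  have hne : f.P ≠ (f.conj g).P := Ne.symm hQ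
  generalize f.conj g = f' at hne
  have eqi : ∀ {A B : AddSubgroup V}, A ≤ B → A.index = p → B.index = p → B ≤ A := fun h a b => by
    have := AddSubgroup.relIndex_mul_index h
    rw [a, b] at this
    exact AddSubgroup.relIndex_eq_one.1 (Nat.eq_of_mul_eq_mul_right hp.out.pos (by rw [this, one_mul]))
  have i1 := H.index_sup hne
  have t3 : ∀ x, x ∈ f'.Y ⊔ f.Y ↔ f.u x ∈ f'.Y.map f.u := fun x => by
    rw [← AddSubgroup.mem_comap, AddSubgroup.comap_map_eq]; rfl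
  obtain ⟨f₀, h₀⟩ : ∃ f₀ : Fr p K G V, ¬ f₀.Y ≤ f'.Y ⊔ f.Y := by
    by_contra hc
    push Not at hc
    obtain ⟨y, y1, y2⟩ : ∃ y ∈ f'.Y, f.u y ≠ 0 := by
      by_contra h
      push Not at h
      exact hne (H.eq_of_Z (Z_eq fun x hx => H.memZ_of f f' hx (h x (f'.Z_le hx))))
    have h1 : ∀ l : K, l ^ 2 * f.u y ∈ f'.Y.map f.u := fun l => by
      rcases eq_or_ne l 0 with rfl | hl
      · simp
      · obtain ⟨h, -, -, h3⟩ := f.tor' hl
        rw [← h3, ← t3]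
        exact hc (f'.conj h) (by simpa [memY_conj] using y1)
    have h2 : f'.Y ⊔ f.Y = ⊤ := eq_top_iff.2 fun x _ => (t3 x).2 (by
      have h4 := H.two
      convert sub_mem (h1 ((f.u x / f.u y + 1) / 2)) (h1 ((f.u x / f.u y - 1) / 2)) using 1
      field_simp; ring)
    rw [h2, AddSubgroup.index_top] at i1
    exact hp.out.one_lt.ne i1
  let F : Option K → Fr p K G V := fun o => o.elim f fun t => f'.conj (f.τ t)
  have F1 : ∀ o, (F o).Y ≤ f'.Y ⊔ f.Y := by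
    rintro (_ | t)
    · exact le_sup_right
    · intro x hx
      have h1 := subY (f.τ_mem t) ((f.τ t)⁻¹ • x)
      rw [smul_inv_smul] at h1
      simpa using add_mem (AddSubgroup.mem_sup_left (f'.memY_conj.1 hx)) (AddSubgroup.mem_sup_right h1)
  have F2 : ∀ t, f.P ≠ (f'.conj (f.τ t)).P := fun t e => hne (by
    rw [conj_P, ← inv_smul_eq_iff] at e
    rw [← e]
    exact (Sylow.smul_eq_iff_mem_normalizer.2 (le_normalizer (inv_mem (f.τ_mem t)))).symm)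
  have F3 : ∀ o o', (F o).P = (F o').P → o = o' := by
    rintro (_ | t) (_ | t') e
    · rfl
    · exact absurd e (F2 t')
    · exact absurd e.symm (F2 t)
    · by_contra hc
      have h1 : (f.τ t')⁻¹ * f.τ t ∈ (f.P : Subgroup G) := mul_mem (inv_mem (f.τ_mem t')) (f.τ_mem t)
      have h2 : ((f.τ t')⁻¹ * f.τ t) • f'.P = f'.P := by
        rw [mul_smul, inv_smul_eq_iff]; exact e
      refine hne (H.ti h1 (H.mem_of_norm h1 (Sylow.smul_eq_iff_mem_normalizer.1 h2)) fun h => hc ?_)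
      have := f.v_τ t (f.mk' 1 0 0)
      rw [← inv_mul_eq_one.1 h] at this
      simpa using this.symm
  have F4 : ∀ o, f₀.P ≠ (F o).P := fun o e => h₀ (H.Y_eq e ▸ F1 o)
  have hu : Function.Surjective f₀.u := fun a => ⟨f₀.mk' a 0 0, by simp⟩
  let _ := ZMod.algebra K p
  have F5 : ∀ o, ∃ φ : Module.Dual (ZMod p) K, ∀ x, x ∈ (F o).Y ⊔ f₀.Y ↔ φ (f₀.u x) = 0 := fun o => by
    have h1 := AddSubgroup.comap_map_eq f₀.u (F o).Y
    have h2 := H.index_sup (F4 o)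
    rw [← show _ = (F o).Y ⊔ f₀.Y from h1, AddSubgroup.index_comap_of_surjective _ hu] at h2
    let e := addEquivOfPrimeCardEq (p := p) h2 (Nat.card_zmod p)
    refine ⟨(e.toAddMonoidHom.comp (QuotientAddGroup.mk' _)).toZModLinearMap p, fun x => ?_⟩
    rw [← show _ = (F o).Y ⊔ f₀.Y from h1, AddSubgroup.mem_comap]
    simp
  choose φ hφ using F5
  have hi : Function.Injective φ := fun o o' e => by_contra fun hc => by
    have h1 := H.index_sup fun h => hc (F3 o o' h)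
    have h2 : (F o').Y ⊔ (F o).Y ≤ (F o).Y ⊔ f₀.Y :=
      sup_le (fun x hx => (hφ o x).2 (e ▸ (hφ o' x).1 (AddSubgroup.mem_sup_left hx))) le_sup_left
    exact h₀ (le_sup_right.trans ((eqi h2 h1 (H.index_sup (F4 o))).trans (sup_le (F1 _) (F1 _))))
  have : Finite (Module.Dual (ZMod p) K) := Finite.of_injective _ DFunLike.coe_injective
  have h1 := Nat.card_le_card_of_injective φ hi
  rw [Module.natCard_eq_pow_finrank (K := ZMod p) (V := Module.Dual (ZMod p) K),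
    Subspace.dual_finrank_eq, ← Module.natCard_eq_pow_finrank] at h1
  simp at h1

end OH

end Cfsg.Agent.SpF
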