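import Cfsg.Agent.SpF.U
import Cfsg.Agent.SpF.Odd
import Cfsg.Agent.SpF.Tools

/-! Saturated fusion systems on a Sylow `p`-subgroup of `Sp₄(q)` for `p` odd. -/

set_option autoImplicit false
set_option linter.unusedSectionVars false

namespace Cfsg.Agent.SpF

open Subgroup Cfsg.FusionSystem Cfsg.Agent.Fus U

variable {K : Type*} [Field K] (h2 : (2 : K) ≠ 0)
include h2

theorem mem_sA_of_comm {x y : U K} (hx : x ∈ sA K) (hx' : x ∉ sZ K) (h : x * y = y * x) :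
    y ∈ sA K := by
  by_contra hy
  obtain ⟨h1, h3⟩ := comm_iff.1 h
  simp only [mem_sA.1 hx, mul_zero, zero_mul] at h1 h3
  have h4 : x.u = 0 := mul_left_cancel₀ hy (by linear_combination -h1)
  exact hx' ⟨hx, h4, mul_left_cancel₀ (mul_ne_zero h2 hy) (by rw [h4] at h3; linear_combination -h3)⟩

omit h2 in
theorem comm_of_comm {x a b : U K} (hx : x ∉ sA K) (ha : x * a = a * x) (hb : x * b = b * x) :
    a * b = b * a := by
  obtain ⟨a1, a2⟩ := comm_iff.1 ha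
  obtain ⟨b1, b2⟩ := comm_iff.1 hb
  exact comm_iff.2 ⟨mul_left_cancel₀ hx (by linear_combination a.t * b1 - b.t * a1),
    mul_left_cancel₀ hx (by
      linear_combination a.t * b2 - b.t * a2 + (a.t ^ 2 - a.t * x.t) * b1 - (b.t ^ 2 - b.t * x.t) * a1)⟩

theorem aut_sZ (φ : MulAut (U K)) {x : U K} (hx : x ∈ sZ K) : φ x ∈ sZ K := by
  have key : ∀ y, φ x * y = y * φ x := fun y => by
    rw [← φ.apply_symm_apply y, ← map_mul, sZ_comm hx, map_mul]
  have h1 := (comm_iff.1 (key ⟨0, 1, 0, 0⟩)).1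
  obtain ⟨h3, h4⟩ := comm_iff.1 (key ⟨1, 0, 0, 0⟩)
  simp only [mul_one, zero_mul, mul_zero, one_mul] at h1 h3 h4
  exact ⟨h1, h3.symm, mul_left_cancel₀ h2 (by linear_combination -h4 + h3)⟩

theorem aut_sY (φ : MulAut (U K)) {x : U K} (hx : x ∈ sY K) : φ x ∈ sY K := by
  have key : ∀ y, φ x * y * (φ x)⁻¹ * y⁻¹ ∈ sZ K := fun y => by
    rw [← φ.apply_symm_apply y, ← map_inv, ← map_inv, ← map_mul, ← map_mul, ← map_mul]
    exact aut_sZ h2 φ (by simp [hx.1, hx.2])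
  have h1 := (key ⟨0, 1, 0, 0⟩).2.2
  have h3 := (key ⟨1, 0, 0, 0⟩).2.2
  simp only [mul_v, mul_t, inv_v, inv_u, inv_t] at h1 h3
  exact ⟨by linear_combination h1, by linear_combination -h3⟩

theorem aut_sA (φ : MulAut (U K)) {x : U K} (hx : x ∈ sA K) : φ x ∈ sA K := by
  have h1 := aut_sY h2 φ⁻¹ (x := ⟨0, 0, 1, 0⟩) ⟨rfl, rfl⟩
  have h3 : x * φ⁻¹ ⟨0, 0, 1, 0⟩ = φ⁻¹ ⟨0, 0, 1, 0⟩ * x := comm_iff.2 (by
    simp only [h1.1, mem_sA.1 hx]; simp)
  have h4 := congrArg φ h3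
  rw [map_mul, map_mul, MulAut.apply_inv_self] at h4
  simpa [h2] using (comm_iff.1 h4).2

omit h2 in
/-- Torus elements. -/
structure Tor (φ : MulAut (U K)) (l : K) : Prop where
  z : ∀ x ∈ sZ K, φ x = x
  v : ∀ y ∈ sY K, (φ y).v = l * y.v
  u : ∀ a ∈ sA K, (φ a).u = l ^ 2 * a.u
  t : ∀ x, l * (φ x).t = x.t

theorem tor_of_fix {φ : MulAut (U K)} (h : ∀ x ∈ sZ K, φ x = x) : Tor φ (φ ⟨0, 0, 1, 0⟩).v := by
  have k1 : ∀ g, ∀ y ∈ sY K, (φ g).t * (φ y).v = g.t * y.v := fun g y hy => by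
    have h1 := congrArg U.w (h (g * y * g⁻¹ * y⁻¹) (by simp [hy.1, hy.2]; ring))
    have h3 := aut_sY h2 φ hy
    simp only [map_mul, map_inv, mul_w, mul_t, inv_w, inv_v, inv_u, inv_t, hy.1, hy.2, h3.1, h3.2] at h1
    exact mul_left_cancel₀ h2 (by linear_combination h1)
  have k2 : ∀ x, (φ ⟨0, 0, 1, 0⟩).v * (φ x).t = x.t := fun x => by
    simpa [mul_comm] using k1 x ⟨0, 0, 1, 0⟩ ⟨rfl, rfl⟩
  have k3 : ∀ y ∈ sY K, (φ y).v = (φ ⟨0, 0, 1, 0⟩).v * y.v := fun y hy => by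
    linear_combination (φ ⟨0, 0, 1, 0⟩).v * k1 ⟨1, 0, 0, 0⟩ y hy - (φ y).v * k2 ⟨1, 0, 0, 0⟩
  refine ⟨h, k3, fun a ha => ?_, k2⟩
  have h1 := k3 (⟨1, 0, 0, 0⟩ * a * (⟨1, 0, 0, 0⟩ : U K)⁻¹ * a⁻¹) (by simp)
  have h3 := mem_sA.1 (aut_sA h2 φ ha)
  simp only [map_mul, map_inv, mul_v, mul_t, inv_v, inv_u, inv_t, mem_sA.1 ha, h3] at h1
  linear_combination (φ ⟨0, 0, 1, 0⟩).v * h1 - (φ a).u * k2 ⟨1, 0, 0, 0⟩

variable [Fintype K] {p : ℕ} [hp : Fact p.Prime] [CharP K p] {F : FusionSystem (⊤ : Subgroup (U K))}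
  (hF : F.IsSaturated p) {E : Subgroup (U K)}
include hF

omit h2 hF in
theorem sZ_le (hE : F.IsEssential p E) : sZ K ≤ E := fun _ hz =>
  mem_of_comm hE fun y _ => (sZ_comm hz y).symm

theorem core_eq_III (hE : F.IsEssential p E) {x : U K} (hx : x ∈ E) (hx' : x ∉ sA K)
    (hc : ∀ y ∈ E, x * y = y * x) (hR : F.core ≠ ⊥) : F.core = E := by
  have hle := le_of_isNormal_of_essential (pU U.isPGroup) (isNormal_core F) hE
  have hEA : ∀ y ∈ E, y ∈ sA K → y ∈ sZ K := fun y hy hy' => by_contra fun h =>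
    hx' (mem_sA_of_comm h2 hy' h (hc y hy).symm)
  have hn : ∀ v, ∀ y ∈ E, (⟨0, 0, v, 0⟩ : U K) * y * (⟨0, 0, v, 0⟩ : U K)⁻¹ ∈ E := fun v y hy => by
    simpa only [inv_mul_cancel_right] using mul_mem (sZ_le hE
      (show (⟨0, 0, v, 0⟩ : U K) * y * (⟨0, 0, v, 0⟩ : U K)⁻¹ * y⁻¹ ∈ sZ K by simp)) hy
  have := AC.eq_top_of_stab (isPGroup_of_le (pU U.isPGroup) le_top) (sat_fullyAutomized (pU U.isPGroup) hF hE.2.1).2
    (autInducedBy_le_autGroup F le_top) (Z := (sZ K).subgroupOf E) (fun t ht => ?_)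
    (fun t ht ht1 y hy => by_contra fun hy' => ht1 ?_) (fun y hy z hz => ?_) (fun hi => ?_)
    (inv_subgroupOf_of_stronglyClosed le_top (stronglyClosed_of_isNormal (isNormal_core F)))
    fun e => hR (by rwa [subgroupOf_eq_bot, disjoint_iff, inf_eq_left.2 hle] at e)
  · exact le_antisymm hle (subgroupOf_eq_top.1 this)
  · obtain ⟨g, -, e⟩ := mem_autInducedBy_iff.1 ht
    have h1 : ∀ y : E, y⁻¹ * t y ∈ (sZ K).subgroupOf E := fun y =>
      hEA _ (y⁻¹ * t y).2 (by simp [e])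
    exact ⟨fun y hy => Subtype.ext ((e y).trans (sZ_conj g hy)), fun y _ => h1 y, h1⟩
  · obtain ⟨g, -, e⟩ := mem_autInducedBy_iff.1 ht
    have h1 : (y : U K) ∉ sA K := fun h => hy' (hEA _ y.2 h)
    have h3 : (y : U K) * g = g * y := by rw [eq_comm, ← mul_inv_eq_iff_eq_mul, ← e, hy]
    ext1 z
    refine Subtype.ext ?_
    rw [e, comm_of_comm h1 h3 (comm_of_comm hx' (hc _ y.2) (hc _ z.2)), mul_inv_cancel_right]
    rfl
  · have h1 : (y : U K).t ≠ 0 := fun h => hy (hEA _ y.2 h)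
    have h3 := mem_sZ.1 hz
    refine ⟨_, conjAut_mem_autInducedBy (mem_normalizerIn_of_conj (mem_top _)
      (hn (-(z : U K).w / (2 * (y : U K).t)))), Subtype.ext (U.ext ?_ ?_ ?_ ?_)⟩
    · simpa using h3.1.symm
    · simpa using h3.2.1.symm
    · simpa using h3.2.2.symm
    · simp; field_simp; ring
  · have h1 : ∀ α ∈ F.autGroup E, ∀ y ∈ E, y ∈ sZ K → afn α y ∈ sZ K := fun α hα y hy h => by
      simpa [mem_subgroupOf, afn_apply α hy] using hi α hα ⟨y, hy⟩ h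
    simpa using hEA _ (mem_of_three (pU U.isPGroup) hE h1 h1 (hn 1) (fun y _ hy => by
      rw [← sZ_comm hy]; group) (fun y _ _ => by simp) fun y _ => by simp) rfl

set_option maxHeartbeats 600000 in
theorem case_II (hE : F.IsEssential p E) {x : U K} (hx : x ∈ E) (hx' : x ∉ sA K)
    (hc : ∀ z ∈ E, (∀ y ∈ E, z * y = y * z) → z ∈ sZ K) :
    (F.core ≤ sZ K ∨ F.core = E) ∧ (∀ l ≠ 0, ∃ φ ∈ AS F, Tor φ l) ∧
      ∃ φ ∈ AS F, Tor φ (-1) ∧ ∀ y, y ∈ E ↔ φ y * y ∈ sY K := by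
  have hZ : ∀ α : MulAut E, ∀ y ∈ E, y ∈ sZ K → afn α y ∈ sZ K := fun α y hy h =>
    inv_of_center (fun z hz y _ => sZ_comm hz y) hc α hy h
  have hY : sY K ≤ E := fun z hz => by
    have h1 : ∀ y, z * y * z⁻¹ * y⁻¹ ∈ sZ K := fun y => by simp [hz.1, hz.2]
    exact mem_of_three (pU U.isPGroup) hE (fun α _ => hZ α) (fun α _ => hZ α)
      (fun y hy => by simpa using mul_mem (sZ_le hE (h1 y)) hy)
      (fun y _ hy => by rw [← sZ_comm hy]; group) (fun y _ _ => h1 y) fun y _ => h1 y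
  have hn : ∀ g, ∀ y ∈ E, g * y * g⁻¹ ∈ E := fun g y hy => by
    simpa using mul_mem (hY (show g * y * g⁻¹ * y⁻¹ ∈ sY K by simp)) hy
  have hni : ¬ ∀ α ∈ F.autGroup E, ∀ y ∈ E, y ∈ sY K → afn α y ∈ sY K := fun hi =>
    (essential_lt (pU U.isPGroup) hF hE).not_ge fun g _ => mem_of_three (pU U.isPGroup) hE (fun α _ => hZ α) hi (hn g)
      (fun y _ hy => by rw [← sZ_comm hy]; group) (fun y _ hy => by simp [hy.1, hy.2]; ring)
      fun y _ => by simp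
  have hu : ∀ y ∈ E, y.u = x.u / x.t * y.t := by
    by_contra! h
    obtain ⟨y, hy, h⟩ := h
    refine hni fun α _ z hz hz' => ?_
    have key : ∀ g ∈ E, (afn α z).t * g.u = g.t * (afn α z).u := fun g hg => by
      have h0 := afn_mem α⁻¹ hg
      have h1 := hZ α (z * afn α⁻¹ g * z⁻¹ * (afn α⁻¹ g)⁻¹)
        (mul_mem (hn _ _ h0) (inv_mem h0)) (by simp [hz'.1, hz'.2])
      rw [afn_map_mul α (hn _ _ h0) (inv_mem h0), (homOn_afn α).map_conj hz h0, afn_map_inv α h0,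
        afn_afn_inv α hg] at h1
      have h3 := h1.2.2
      simp only [mul_v, mul_t, inv_v, inv_u, inv_t] at h3
      linear_combination h3
    have h3 : y.u * x.t - x.u * y.t ≠ 0 := fun e => h (by
      have := hx'; simp only [mem_sA] at this; field_simp; linear_combination e)
    exact ⟨mul_left_cancel₀ h3 (by linear_combination x.t * key y hy - y.t * key x hx),
      mul_left_cancel₀ h3 (by linear_combination x.u * key y hy - y.u * key x hx)⟩
  generalize x.u / x.t = c at hu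
  let V : AddSubgroup (K × K) :=
    { carrier := {y | ∃ x ∈ E, x.t = y.1}
      zero_mem' := ⟨1, one_mem _, rfl⟩
      add_mem' := by rintro a b ⟨x, hx, e⟩ ⟨y, hy, e'⟩; exact ⟨x * y, mul_mem hx hy, by simp [e, e']⟩
      neg_mem' := by rintro a ⟨x, hx, e⟩; exact ⟨x⁻¹, inv_mem hx, by simp [e]⟩ }
  let π : E → V := fun y => ⟨((y : U K).t, (y : U K).v - c * (y : U K).t ^ 2 / 2), y, y.2, rfl⟩
  have π0 : ∀ y, π y = 0 ↔ (y : U K) ∈ sZ K := fun y => by
    simp only [π, Subtype.ext_iff, Prod.ext_iff, mem_sZ, hu _ y.2]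
    exact ⟨fun ⟨h, h'⟩ => ⟨h, by simp [show (y : U K).t = 0 from h], by
      simpa [show (y : U K).t = 0 from h] using h'⟩, fun h => by simp [h.1, h.2.2]⟩
  have πm : ∀ y z, π (y * z) = π y + π z := fun y z =>
    Subtype.ext (Prod.ext rfl (by simp [π, hu _ z.2]; field_simp; ring))
  have πs : Function.Surjective π := by
    rintro ⟨⟨a, b⟩, y, hy, e⟩
    obtain rfl : y.t = a := e
    exact ⟨⟨y * ⟨0, 0, b - y.v + c * y.t ^ 2 / 2, 0⟩, mul_mem hy (hY ⟨rfl, rfl⟩)⟩,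
      Subtype.ext (by simp [π]; ring)⟩
  obtain ⟨_, act⟩ := exists_act π πm πs (F.autGroup E) fun α _ y hy => by
    rw [π0, ← afn_coe]; exact hZ α _ y.2 ((π0 y).1 hy)
  obtain ⟨P, hP⟩ := exists_syl (pU U.isPGroup) hF hE (autInducedBy_le_autGroup F le_top) le_rfl
  let V₁ : AddSubgroup V := ((AddMonoidHom.fst K K).comp V.subtype).ker
  have π1 : ∀ y, π y ∈ V₁ ↔ (y : U K) ∈ sY K := fun y =>
    ⟨fun h => ⟨h, by rw [hu _ y.2, show (y : U K).t = 0 from h, mul_zero]⟩, fun h => h.1⟩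
  have hS : Sh P V₁ := by
    refine ⟨fun s hs y hy => ?_, fun s hs y => ?_, fun y hy z hz => ?_, fun s hs y hy e z => ?_⟩
    · obtain ⟨g, e⟩ := (hP s).1 hs
      obtain ⟨y, rfl⟩ := πs y
      have := (π1 y).1 hy
      exact (act s y).trans (Subtype.ext (by simp [π, e, this.1, this.2]; ring))
    · obtain ⟨g, e⟩ := (hP s).1 hs
      obtain ⟨y, rfl⟩ := πs y
      rw [act]
      simp [V₁, π, e]
    · obtain ⟨y, rfl⟩ := πs y
      have h1 : (y : U K).t ≠ 0 := hy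
      have h3 : (z : K × K).1 = 0 := hz
      have h4 : (⟨0, -(z : K × K).2 / (y : U K).t, 0, 0⟩ : U K) ∈ normalizerIn ⊤ E :=
        mem_normalizerIn_of_conj trivial (hn _)
      refine ⟨⟨_, autInducedBy_le_autGroup F le_top (conjAut_mem_autInducedBy h4)⟩,
        (hP _).2 ⟨_, fun _ => rfl⟩, ?_⟩
      rw [act]
      exact Subtype.ext (Prod.ext (by simp [π, h3]) (by simp [π]; field_simp))
    · obtain ⟨g, e'⟩ := (hP s).1 hs
      obtain ⟨y, rfl⟩ := πs y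
      obtain ⟨z, rfl⟩ := πs z
      have h1 : (y : U K).t ≠ 0 := hy
      rw [act] at e ⊢
      have h3 := congrArg (fun a : V => (a : K × K).2) e
      simp only [π, e', conj_t, conj_v, hu _ y.2] at h3
      refine Subtype.ext (Prod.ext (by simp [π, e']) ?_)
      simp only [π, e', conj_t, conj_v, hu _ z.2]
      exact mul_left_cancel₀ h1 (by linear_combination (z : U K).t * h3)
  obtain ⟨g, y₀, h₀, h₁⟩ : ∃ g : F.autGroup E, ∃ y₀ ∈ V₁, g • y₀ ∉ V₁ := by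
    by_contra! h
    refine hni fun α hα y hy hy' => ?_
    have := h ⟨α, hα⟩ (π ⟨y, hy⟩) ((π1 _).2 hy')
    rwa [act, π1, ← afn_apply α hy] at this
  have tor : ∀ l ≠ 0, ∃ φ ∈ AS F, Tor φ l ∧ ∀ y ∈ E, φ y ∈ E := fun l hl => by
    let N : Subgroup (F.autGroup E) :=
      { carrier := {α | ∀ z : E, (z : U K) ∈ sZ K → (α : MulAut E) z = z}
        one_mem' := fun _ _ => rfl
        mul_mem' := fun ha hb z hz => by rw [coe_mul, MulAut.mul_apply, hb z hz, ha z hz]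
        inv_mem' := fun ha z hz => by rw [coe_inv, MulAut.inv_apply, MulEquiv.symm_apply_eq, ha z hz] }
    have : N.Normal := ⟨fun n hn a z hz => by
      rw [coe_mul, coe_mul, MulAut.mul_apply, MulAut.mul_apply, hn _ (by
        rw [← afn_coe]; exact hZ _ _ z.2 hz), coe_inv, MulAut.apply_inv_self]⟩
    obtain ⟨n, hn', e⟩ := hS.trans N (fun s hs z hz => by
      obtain ⟨g, e⟩ := (hP s).1 hs
      exact Subtype.ext ((e z).trans (sZ_conj g hz))) h₀ h₁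
      (y₁ := π ⟨⟨0, 0, 1, 0⟩, hY ⟨rfl, rfl⟩⟩) (y₂ := π ⟨⟨0, 0, l, 0⟩, hY ⟨rfl, rfl⟩⟩) rfl
      (by simp [π0]) rfl (by simp [π0, hl])
    obtain ⟨φ, h3, h4⟩ := exists_ext (pU U.isPGroup) hF hE hn (L := sZ K) (M := sY K) (fun _ h => ⟨h.1, h.2.1⟩)
      (fun g _ h => sZ_conj g h) (fun g y hy => by simp [hy.1, hy.2]; ring) (fun g y _ => by simp) n.2
      (hZ _) fun y hy hy' => by
        have := hS.ti (g := n) (y := π ⟨⟨0, 0, 1, 0⟩, hY ⟨rfl, rfl⟩⟩) rfl (by simp [π0]) (e ▸ rfl)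
          ((π1 ⟨y, hy⟩).2 hy')
        rwa [act, π1, ← afn_apply _ hy] at this
    have h5 := tor_of_fix h2 (φ := φ) fun z hz => by
      rw [h4 _ (sZ_le hE hz), afn_apply _ (sZ_le hE hz), hn' _ hz]
    rw [act] at e
    have h6 := congrArg (fun a : V => (a : K × K)) e
    simp only [π, ← afn_coe, ← h4 _ (hY ⟨rfl, rfl⟩ : (⟨0, 0, 1, 0⟩ : U K) ∈ E), Prod.ext_iff] at h6
    refine ⟨φ, h3, ?_, fun y hy => h4 y hy ▸ afn_mem _ hy⟩
    convert h5 using 1
    simpa [h6.1] using h6.2.symm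
  refine ⟨or_iff_not_imp_left.2 fun h => ?_, fun l hl => (tor l hl).imp fun φ h => ⟨h.1, h.2.1⟩, ?_⟩
  · have hle := le_of_isNormal_of_essential (pU U.isPGroup) (isNormal_core F) hE
    obtain ⟨r, hr, hr'⟩ := SetLike.not_le_iff_exists.1 h
    let R : AddSubgroup V :=
      { carrier := {y | ∃ x : E, (x : U K) ∈ F.core ∧ π x = y}
        zero_mem' := ⟨1, one_mem _, (π0 _).2 (one_mem _)⟩
        add_mem' := by rintro _ _ ⟨x, hx, rfl⟩ ⟨y, hy, rfl⟩; exact ⟨x * y, mul_mem hx hy, πm x y⟩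
        neg_mem' := by
          rintro _ ⟨x, hx, rfl⟩
          exact ⟨x⁻¹, inv_mem hx, eq_neg_of_add_eq_zero_left (by
            rw [← πm, inv_mul_cancel, π0]; exact one_mem _)⟩ }
    have h3 := hS.eq_top h₀ h₁ (R := R) (by
      rintro α _ ⟨y, hy, rfl⟩
      exact ⟨_, by rw [← afn_coe]; exact core_inv α.2 y.2 hy, (act α y).symm⟩)
      (r := π ⟨r, hle hr⟩) ⟨_, hr, rfl⟩ (by rwa [Ne, π0])
    obtain ⟨x', h4, h5⟩ := h3 (π ⟨x, hx⟩)
    have h6 : (x' : U K).t ≠ 0 := fun e => hx' ((congrArg (fun a : V => (a : K × K).1) h5).symm.trans e)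
    refine le_antisymm hle fun y hy => ?_
    obtain ⟨y', h7, h8⟩ := h3 (π ⟨y, hy⟩)
    have h9 : (y' : U K)⁻¹ * y ∈ sZ K := (π0 (y'⁻¹ * ⟨y, hy⟩)).1 (by
      have := πm y' (y'⁻¹ * ⟨y, hy⟩)
      rwa [mul_inv_cancel_left, h8, left_eq_add] at this)
    rw [← mul_inv_cancel_left (y' : U K) y]
    refine mul_mem h7 ?_
    generalize (y' : U K)⁻¹ * y = z at h9
    convert mul_mem (core_conj ⟨0, 0, -z.w / (2 * (x' : U K).t), 0⟩ h4) (inv_mem h4) using 1
    refine U.ext (by simp [h9.1]) (by simp [h9.2.1]) (by simp [h9.2.2]) ?_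
    simp; field_simp; ring
  · obtain ⟨φ, h3, h4, h5⟩ := tor (-1) (neg_ne_zero.2 one_ne_zero)
    have h6 : ∀ y, (φ y).t = -y.t := fun y => by linear_combination -h4.t y
    have h7 : ∀ y ∈ E, (φ y).u = -y.u := fun y hy => by rw [hu _ (h5 y hy), h6, hu _ hy]; ring
    refine ⟨φ, h3, h4, fun y => ⟨fun hy => by simp [h6, h7 y hy], fun hy => ?_⟩⟩
    obtain ⟨e, he, h8⟩ : ∃ e ∈ E, e.t = y.t := by
      rcases eq_or_ne y.t 0 with h | h
      · exact ⟨1, one_mem _, h.symm⟩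
      · obtain ⟨ψ, -, h8, h9⟩ := tor (x.t / y.t) (div_ne_zero hx' h)
        refine ⟨ψ x, h9 x hx, ?_⟩
        have := h8.t x
        have h10 : x.t ≠ 0 := hx'
        field_simp at this
        exact this
    have h9 := h4.u (e⁻¹ * y) (by simp [h8])
    have h10 := hy.2
    simp only [map_mul, map_inv, mul_u, inv_u, h7 e he] at h9 h10
    rw [← mul_inv_cancel_left e y]
    exact mul_mem he (hY ⟨by simp [h8], mul_left_cancel₀ h2 (by
      rw [mul_u, inv_u]; linear_combination h10 - h9)⟩)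

theorem not_ess_sA (ht : ∀ l ≠ 0, ∃ φ ∈ AS F, Tor φ l) (hR : F.core ≤ sZ K) (hR' : F.core ≠ ⊥) :
    ¬ F.IsEssential p (sA K) := fun hE => by
  obtain ⟨r, hr, hr'⟩ := (bot_or_exists_ne_one _).resolve_left hR'
  have hrA : r ∈ sA K := (hR hr).1
  let G : Subgroup (MulAut (sA K)) := F.autGroup _ ⊓ MulAction.stabilizer _ (⟨r, hrA⟩ : sA K)
  have hA := autInducedBy_le_autGroup F (le_top (a := sA K))
  have key : ∀ α ∈ F.autGroup (sA K), ∀ s ∈ autInducedBy ⊤ (sA K), α * s * α⁻¹ ∈ G := fun α hα s hs => by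
    refine ⟨(F.autGroup _).mul_mem (mul_mem hα (hA hs)) (inv_mem hα), ?_⟩
    obtain ⟨g, -, e⟩ := mem_autInducedBy_iff.1 hs
    have h1 := hR (core_inv (inv_mem hα) hrA hr)
    rw [afn_apply _ hrA] at h1
    change α (s (α⁻¹ _)) = _
    rw [show s (α⁻¹ ⟨r, hrA⟩) = α⁻¹ ⟨r, hrA⟩ from Subtype.ext ((e _).trans (sZ_conj g h1)),
      MulAut.apply_inv_self]
  have hG : autInducedBy ⊤ (sA K) ≤ G := fun s hs => by simpa using key 1 (one_mem _) s hs
  let π : sA K → K × K × K := fun y => ((y : U K).u, (y : U K).v, (y : U K).w)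
  have πi : Function.Injective π := fun y z e => Subtype.ext (U.ext (y.2.trans z.2.symm)
    (congrArg (·.1) e) (congrArg (·.2.1) e) (congrArg (·.2.2) e))
  have πs : Function.Surjective π := fun y => ⟨⟨⟨0, y.1, y.2.1, y.2.2⟩, rfl⟩, rfl⟩
  obtain ⟨_, act⟩ := exists_act π (fun y z => by simp [π, mem_sA.1 y.2]) πs G fun α _ y hy => by
    rw [@πi y 1 hy, map_one]; rfl
  obtain ⟨P, hP⟩ := exists_syl (pU U.isPGroup) hF hE hG inf_le_left
  have hn : ∀ g : U K, g ∈ normalizerIn ⊤ (sA K) := fun g =>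
    mem_normalizerIn_of_conj (mem_top _) fun y hy => by simpa using hy
  let f : Fr p K G (K × K × K) :=
    { P := P
      e := AddEquiv.refl _
      τ t := ⟨_, hG (conjAut_mem_autInducedBy (hn ⟨t, 0, 0, 0⟩))⟩
      mem s := (hP s).trans ⟨fun ⟨g, e⟩ => ⟨g.t, Subtype.ext (MulEquiv.ext fun y => Subtype.ext (by
        rw [e]
        exact U.ext (by simp) (by simp) (by simp [mem_sA.1 y.2]; ring) (by simp [mem_sA.1 y.2]; ring)))⟩,
        by rintro ⟨t, rfl⟩; exact ⟨_, fun _ => rfl⟩⟩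
      act t x := by
        obtain ⟨y, rfl⟩ := πs x
        rw [act]
        simp [π, mem_sA.1 y.2]
      tor l hl := by
        obtain ⟨φ, h3, h4⟩ := ht l hl
        obtain ⟨α, h5, h6⟩ := exists_res_AS h3 fun x hx => aut_sA h2 φ hx
        have h7 : ∀ y : sA K, (α y : U K) = φ y := fun y => (afn_coe α y).symm.trans (h6 _ y.2)
        refine ⟨⟨α, h5, Subtype.ext ((h7 _).trans (h4.z r (hR hr)))⟩, fun x a b => ?_, fun x a => ?_,
          fun x => ?_⟩ <;> obtain ⟨y, rfl⟩ := πs x <;> rw [act]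
        · exact congrArg π (Subtype.ext ((h7 _).trans (h4.z _ ⟨y.2, a, b⟩)))
        · exact (congrArg U.v (h7 y)).trans (h4.v _ ⟨y.2, a⟩)
        · exact (congrArg U.u (h7 y)).trans (h4.u _ y.2) }
  have H : OH p K G (K × K × K) (π ⟨r, hrA⟩) :=
    ⟨h2, fun g hg => Subtype.ext (MulEquiv.ext fun y => πi ((act g y).symm.trans (hg _))),
      fun g => (act g _).trans (congrArg π g.2.2),
      fun e => hr' (congrArg Subtype.val (@πi _ 1 e))⟩
  refine not_norm (pU U.isPGroup) hF hE fun α hα s hs => ?_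
  obtain ⟨k, hk⟩ := SylIn.isPGroup (sat_fullyAutomized (pU U.isPGroup) hF hE.2.1).2 hA ⟨s, hs⟩
  obtain ⟨Q, hQ⟩ := (AC.isPGroup_zpowers (p := p) (k := k) (t := (⟨_, key α hα s hs⟩ : G)) (Subtype.ext (by
    have : s ^ p ^ k = 1 := congrArg Subtype.val hk
    simp [this]))).exists_le_sylow
  obtain ⟨g, e⟩ := (hP _).1 (H.sylow_eq f Q ▸ hQ (mem_zpowers _))
  exact mem_autInducedBy_iff.2 ⟨g, trivial, e⟩

theorem neg_uniq {φ φ' : MulAut (U K)} (hφ : φ ∈ AS F) (hφ' : φ' ∈ AS F)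
    (a1 : ∀ x, φ x * x ∈ sA K) (a2 : ∀ a ∈ sA K, a⁻¹ * φ a ∈ sY K)
    (b1 : ∀ x, φ' x * x ∈ sA K) (b2 : ∀ a ∈ sA K, a⁻¹ * φ' a ∈ sY K) (x : U K) :
    φ x * x ∈ sY K ↔ φ' x * x ∈ sY K := by
  let H : Subgroup (MulAut (U K)) :=
    { carrier := {ψ | ∀ x, x⁻¹ * ψ x ∈ sY K}
      one_mem' := by simp
      mul_mem' := fun {a b} ha hb x => by simpa [mul_assoc] using mul_mem (hb x) (ha (b x))
      inv_mem' := fun {a} ha x => by simpa using inv_mem (ha (a⁻¹ x)) }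
  have c1 : ∀ x, ((φ⁻¹ * φ') x).t = x.t := fun x => by
    have h3 := a1 ((φ⁻¹ * φ') x)
    have h4 := b1 x
    rw [MulAut.mul_apply, MulAut.apply_inv_self] at h3
    rw [mem_sA, mul_t] at h3 h4
    rw [MulAut.mul_apply]
    linear_combination h3 - h4
  have c2 : ∀ a ∈ sA K, ((φ⁻¹ * φ') a).u = a.u := fun a ha => by
    have h3 := (a2 _ (aut_sA h2 (φ⁻¹ * φ') ha)).2
    have h4 := (b2 a ha).2
    rw [MulAut.mul_apply, MulAut.apply_inv_self] at h3
    rw [mul_u, inv_u] at h3 h4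
    rw [MulAut.mul_apply]
    linear_combination h4 - h3
  have c3 := mem_of_pow_mem (pU U.isPGroup) hF (mul_mem (inv_mem hφ) hφ') H (fun g x => by simp) fun x => by
    generalize φ⁻¹ * φ' = ψ at c1 c2
    have : ∀ n : ℕ, (∀ x, ((ψ ^ n) x).t = x.t) ∧ (∀ a ∈ sA K, ((ψ ^ n) a).u = a.u) ∧
        ((ψ ^ n) x).u = x.u + n * ((ψ x).u - x.u) := fun n => by
      induction n with
      | zero => simp
      | succ n ih =>
        have h3 := ih.2.1 (x⁻¹ * ψ x) (by simp [c1])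
        simp only [map_mul, map_inv, mul_u, inv_u] at h3
        refine ⟨fun y => by rw [pow_succ, MulAut.mul_apply, ih.1, c1], fun a ha => by
          rw [pow_succ, MulAut.mul_apply, ih.2.1 _ (aut_sA h2 ψ ha), c2 a ha], ?_⟩
        rw [pow_succ, MulAut.mul_apply]
        push_cast
        linear_combination ih.2.2 + h3
    simp [(this p).1, (this p).2.2]
  have c4 := (aut_sY h2 φ (c3 x)).2
  rw [map_mul, map_inv, MulAut.mul_apply, MulAut.apply_inv_self, mul_u, inv_u] at c4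
  simp only [mem_sY, mem_sA.1 (a1 x), mem_sA.1 (b1 x), mul_u, neg_add_eq_zero.1 c4]

theorem isRealizable_odd (hR : F.core ≠ ⊥) : F.IsRealizable p := by
  by_cases h0 : ∃ E, F.IsEssential p E ∧ F.core = E
  · obtain ⟨E, hE, e⟩ := h0
    exact isRealizable_of_isNormal (pU U.isPGroup) hF (isNormal_core F) (e ▸ isCentric_self hE.1)
  push Not at h0
  have key : ∀ E, F.IsEssential p E → E = sA K ∨ (F.core ≤ sZ K ∧ (∀ l ≠ 0, ∃ φ ∈ AS F, Tor φ l) ∧
      ∃ φ ∈ AS F, Tor φ (-1) ∧ ∀ y, y ∈ E ↔ φ y * y ∈ sY K) := fun E hE => by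
    by_cases h1 : E ≤ sA K
    · exact Or.inl (le_antisymm h1 fun x hx => mem_of_comm hE fun y hy =>
        comm_iff.2 (by simp [mem_sA.1 hx, mem_sA.1 (h1 hy)]))
    obtain ⟨x, hx, hx'⟩ := SetLike.not_le_iff_exists.1 h1
    have := case_II h2 hF hE hx hx' fun z hz hc => by_contra fun hz' => h0 E hE
      (core_eq_III h2 hF hE hz (fun h => hx' (mem_sA_of_comm h2 h hz' (hc x hx))) hc hR)
    exact Or.inr ⟨this.1.resolve_right (h0 E hE), this.2⟩
  by_cases h1 : ∀ E, F.IsEssential p E → E = sA K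
  · exact isRealizable_of_uniq (pU U.isPGroup) hF (fun x hx => mem_sA_of_comm h2 (x := ⟨0, 1, 0, 0⟩) rfl (by simp)
      (hx _ rfl)) h1 fun φ _ x hx => aut_sA h2 φ hx
  push Not at h1
  obtain ⟨E, hE, h1⟩ := h1
  obtain ⟨h3, h4, φ, h5, h6, h7⟩ := (key E hE).resolve_left h1
  have n1 : ∀ {φ}, Tor φ (-1 : K) → ∀ x, φ x * x ∈ sA K := fun h x => by
    rw [mem_sA, mul_t]; linear_combination -h.t x
  have n2 : ∀ {φ}, Tor φ (-1 : K) → ∀ a ∈ sA K, a⁻¹ * φ a ∈ sY K := fun h a ha => by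
    simp [h.u a ha, mem_sA.1 ha, mem_sA.1 (aut_sA h2 _ ha)]
  refine isRealizable_of_uniq (pU U.isPGroup) hF (fun x hx => mem_of_comm hE hx) (fun E' hE' => ?_) fun ψ hψ x hx => ?_
  · obtain ⟨-, -, φ', h8, h9, h10⟩ := (key E' hE').resolve_left fun e => not_ess_sA h2 hF h4 h3 hR (e ▸ hE')
    ext y
    rw [h7, h10, neg_uniq h2 hF h5 h8 (n1 h6) (n2 h6) (n1 h9) (n2 h9)]
  · rw [h7, neg_uniq h2 hF h5 (mul_mem (mul_mem hψ h5) (inv_mem hψ)) (n1 h6) (n2 h6)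
      (fun y => by simpa using aut_sA h2 ψ (n1 h6 (ψ⁻¹ y)))
      fun y hy => by simpa using aut_sY h2 ψ (n2 h6 _ (aut_sA h2 ψ⁻¹ hy))]
    simpa using aut_sY h2 ψ ((h7 x).1 hx)

end Cfsg.Agent.SpF
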