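import Cfsg.Agent.SpF.Grp
import Cfsg.Agent.SpF.OddF
import Cfsg.Agent.AS.Model

/-! The fusion systems of `2².L₃(4)` and `2².L₃(4).3`; realizability of the systems with nontrivial core. -/

set_option autoImplicit false
set_option synthInstance.maxSize 4000
set_option maxRecDepth 100000

namespace Cfsg.Agent.SpF

open Subgroup Cfsg.FusionSystem Cfsg.Agent.Fus U AS Class ONT
open Cfsg.Agent.Comp.BN (ev nth ev_subst map_ev)

/-- The field element of a number. -/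
def gf (n : ℕ) : GF4 := ⟨(n % 2 : ℕ), (n / 2 % 2 : ℕ)⟩

/-- The element of a code. -/
def cu (x : C) : U GF4 := ⟨gf x.v, gf (x.v / 4), gf (x.v / 16), gf (x.v / 64) * gf (x.v / 64)⟩

instance decU : DecidableEq (U GF4) := fun _ _ => decidable_of_iff _ U.ext_iff.symm

instance charGF4 : CharP GF4 2 := CharTwo.of_one_ne_zero_of_two_eq_zero one_ne_zero (by decide)

theorem eq_lo (x : C) : x = c (2 ^ lo x) * rs x := by rw [rs, mul_inv_cancel_left]

theorem exists_cu : ∃ e : C ≃* U GF4, ∀ x, ((e x).u = 0 ↔ V1 x) ∧ ((e x).t = 0 ↔ V2 x) := by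
  have h1 : ∀ x, ∀ k < 8, cu (c (2 ^ k) * x) = cu (c (2 ^ k)) * cu x := by decide +kernel
  let f : C →* U GF4 := MonoidHom.mk' cu (induct (fun y => by
    rw [one_mul, show cu 1 = 1 by decide +kernel, one_mul]) fun x hx ih y => by
    have hl := ((lo_chk x).resolve_left hx).1
    rw [eq_lo x, mul_assoc, h1 _ _ hl, h1 _ _ hl, ih, mul_assoc])
  have h2 : Function.Injective f := (injective_iff_map_eq_one _).2 (show ∀ x, cu x = 1 → x = 1 by
    decide +kernel)
  exact ⟨MulEquiv.ofBijective f ((Nat.bijective_iff_injective_and_card _).2 ⟨h2, by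
    rw [card_C, card_U, Nat.card_eq_fintype_card, card_GF4]; rfl⟩),
    show ∀ x, ((cu x).u = 0 ↔ V1 x) ∧ ((cu x).t = 0 ↔ V2 x) by decide +kernel⟩

theorem model_C {G : Type*} [Group G] [Finite G] {ψ : C →* G} (hψ : Function.Injective ψ)
    (hi : ¬ 2 ∣ ψ.range.index) (A : Subgroup G) [A.Normal] (hA : ∀ x, ψ x ∈ A)
    (hz : ψ (c 64) ∈ centralizer (A : Set G)) {n1 n2 : G} (h1 : ActV ψ n1 N1)
    (h2 : ActV (ψ.comp θ) n2 N1) : ∃ (F : FusionSystem (⊤ : Subgroup (U GF4))) (ρ : GF4), St F ρ ∧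
      F.IsRealizable 2 ∧ (F.center = ⊥ ↔ ∀ z ≠ 1, ∃ y ≠ z, ∃ g, g * ψ z * g⁻¹ = ψ y) := by
  obtain ⟨e, he⟩ := exists_cu
  have h3 : ∀ x, ψ.comp e.symm.toMonoidHom (e x) = ψ x := fun x => congrArg ψ (e.symm_apply_apply x)
  obtain ⟨F, ρ, H, h4, h5⟩ := exists_model (ι := ψ.comp e.symm.toMonoidHom) (hψ.comp e.symm.injective)
    (by rwa [MonoidHom.range_comp, MonoidHom.range_eq_top.2 e.symm.surjective, ← MonoidHom.range_eq_map])
    A (fun _ => hA _) ⟨e (c 64), e.map_ne_one_iff.2 (by decide), (h3 _).symm ▸ hz⟩ (by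
      rintro (_ | _)
      · exact ⟨e (θ (c 16)), (he _).1.2 (by decide +kernel), e (θ (N1 (c 16))),
          fun h => absurd ((he _).1.1 h) (by decide +kernel), n2, by
            rw [h3, h3]; exact (h2 _ (by decide)).2⟩
      · exact ⟨e (c 16), (he _).2.2 (by decide), e (N1 (c 16)),
          fun h => absurd ((he _).2.1 h) (by decide), n1, by rw [h3, h3]; exact (h1 _ (by decide)).2⟩)
  refine ⟨F, ρ, H, h4, h5.trans ?_⟩
  simp only [e.surjective.forall, e.surjective.exists, h3, ne_eq, e.map_eq_one_iff, e.apply_eq_iff_eq]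

theorem zz_add (i j k l : ℕ) : zz i j * zz k l = zz (i + k) (j + l) := by
  simp only [zz, pow_add]
  exact Commute.mul_mul_mul_comm (Subgroup.mem_center_iff.1 (pow_mem u_cent k) _) _ _

theorem zz_mod (i j : ℕ) : zz i j = zz (i % 4) (j % 4) := by
  rw [zz, zz, ← pow_eq_pow_mod i u4, ← pow_eq_pow_mod j v4]

theorem zz_sq (i j : ℕ) : zz (2 * i) (2 * j) * zz (2 * i) (2 * j) = 1 := by
  rw [zz_add, zz_mod, show (2 * i + 2 * i) % 4 = 0 by omega, show (2 * j + 2 * j) % 4 = 0 by omega]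
  simp [zz]

/-- The squares of the central elements. -/
def NZ : Subgroup X where
  carrier := {g | ∃ i j, zz (2 * i) (2 * j) = g}
  one_mem' := ⟨0, 0, by simp [zz]⟩
  mul_mem' := by rintro _ _ ⟨i, j, rfl⟩ ⟨k, l, rfl⟩; exact ⟨i + k, j + l, by rw [zz_add, mul_add, mul_add]⟩
  inv_mem' := by rintro _ ⟨i, j, rfl⟩; exact ⟨i, j, eq_inv_of_mul_eq_one_left (zz_sq i j)⟩

instance normal_NZ : NZ.Normal := ⟨by
  rintro _ ⟨i, j, rfl⟩ g
  exact ⟨i, j, by rw [Subgroup.mem_center_iff.1 (zz_cent _ _), mul_inv_cancel_right]⟩⟩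

theorem mem_NZ {g : X} : g ∈ NZ ↔ ∃ i < 2, ∃ j < 2, zz (2 * i) (2 * j) = g :=
  ⟨by
    rintro ⟨i, j, rfl⟩
    exact ⟨i % 2, by omega, j % 2, by omega, by
      rw [zz_mod (2 * i), show 2 * i % 4 = 2 * (i % 2) by omega, show 2 * j % 4 = 2 * (j % 2) by omega]⟩,
    fun ⟨i, _, j, _, h⟩ => ⟨i, j, h⟩⟩

theorem card_NZ : Nat.card NZ = 4 :=
  (Nat.card_congr (Equiv.ofBijective (fun p : Fin 2 × Fin 2 => (⟨_, p.1, p.2, rfl⟩ : NZ)) ⟨fun p q h => by
    have := zz_inj (by omega) (congrArg Subtype.val h)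
    exact Prod.ext (Fin.ext (by omega)) (Fin.ext (by omega)), fun g => by
    obtain ⟨i, hi, j, hj, h⟩ := mem_NZ.1 g.2
    exact ⟨(⟨i, hi⟩, ⟨j, hj⟩), Subtype.ext h⟩⟩)).symm.trans (by simp)

theorem exists_G0 : ∃ (G : Type) (_ : Group G) (_ : Finite G) (ψ : C →* G) (n1 n2 : G) (β : MulAut G),
    Function.Injective ψ ∧ Nat.card G = 80640 ∧ ψ (c 64) ∈ Subgroup.center G ∧ ActV ψ n1 N1 ∧
      ActV (ψ.comp θ) n2 N1 ∧ ∀ x, β (ψ x) = ψ (T 1 x) := by
  have := fin_X
  obtain ⟨σ, hσ⟩ := exists_sig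
  obtain ⟨-, τ, hτ⟩ := exists_tau card_GF4
  obtain ⟨s, hs⟩ := hσ.aut hτ card_GF4 (j := 1) (by decide)
  let φ := QuotientGroup.mk' NZ
  obtain ⟨ψ, hi, hw, hq⟩ := exists_psi (φ := φ) fun g => (QuotientGroup.eq_one_iff g).trans ⟨fun hg => by
    obtain ⟨i, hi, j, hj, rfl⟩ := mem_NZ.1 hg
    exact ⟨zw (2 * i) (2 * j), by clear hg; revert i j; decide, by rw [ev_zw, zz_sq]⟩, fun ⟨w, hw, e⟩ => by
    have : ∀ w ∈ [[], [3, 3], [5, 5], [3, 3, 5, 5]], ∃ i < 2, ∃ j < 2, w = zw (2 * i) (2 * j) := by decide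
    obtain ⟨i, -, j, -, rfl⟩ := this w hw
    rw [eq_inv_of_mul_eq_one_right e, ev_zw]
    exact inv_mem ⟨i, j, rfl⟩⟩
  have hq' : ∀ w b y, eqm (ky (cjW w (wd b))) (kt y) = true →
      φ (ev xX w) * ψ b * (φ (ev xX w))⁻¹ = ψ y := fun w b y e => by
    have := hq _ _ e
    rwa [ev_cjW, map_mul, map_mul, map_inv, ← hw] at this
  let γ : X →* X := (MulAut.conj (ev xX (nth [] LW 1))).toMonoidHom.comp (σ 1)
  have h1 : ∀ a b n, zz a b ^ (2 * n) ∈ NZ := fun a b n => by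
    rw [pow_mul, pow_two, zz_add]
    exact NZ.pow_mem ⟨a, b, by rw [two_mul, two_mul]⟩ n
  let β := QuotientGroup.map NZ NZ γ (by
    rintro _ ⟨i, j, rfl⟩
    refine normal_NZ.conj_mem _ ?_ _
    rw [zz, map_mul, map_pow, map_pow, hσ.u 1 (by decide), hσ.v 1 (by decide)]
    exact mul_mem (h1 ..) (h1 ..))
  have h2 : ∀ g, β (φ g) = φ (γ g) := fun _ => rfl
  have h3 : ∀ x, β (ψ x) = ψ (T 1 x) := induct (by simp [(sig_chk 1 (by decide)).2.1.1]) fun x hx ih => by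
    have := hq _ _ ((sig_chk 1 (by decide)).1 _ ((lo_chk x).resolve_left hx).1)
    rw [ev_cjW, ev_subst, ← funext (hσ.map 1 (by decide)), ← map_ev] at this
    rw [(sig_chk 1 (by decide)).2.1.2, map_mul, ← ih, ← this, eq_lo x, map_mul, map_mul, ← eq_lo, hw, h2]
    rfl
  have h4 : ∀ i < 4, ∀ j < 4, ∃ y, eqm (ky (zw i j)) (kt y) = true := by decide +kernel
  have h5 : Function.Injective β := (injective_iff_map_eq_one _).2 fun a ha => by
    obtain ⟨g, rfl⟩ := QuotientGroup.mk'_surjective NZ a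
    obtain ⟨i, hi', j, hj, e⟩ := mem_NZ.1 ((QuotientGroup.eq_one_iff _).1 ha)
    have h6 := (hτ.ker (γ g)).2 ⟨_, by omega, _, by omega, e.symm⟩
    have h7 : τ g = 1 := by simpa [γ, ← hs] using h6
    obtain ⟨k, hk, l, hl, rfl⟩ := (hτ.ker g).1 h7
    obtain ⟨y, hy⟩ := h4 k hk l hl
    have h8 : φ (zz k l) = ψ y := ev_zw k l ▸ hq _ _ hy
    change β (φ _) = 1 at ha
    rw [h8, h3, map_eq_one_iff _ hi] at ha
    change φ _ = 1
    rw [h8, (show ∀ z, T 1 z = 1 → z = 1 by decide +kernel) y ha, map_one]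
  have h6 := card_eq_card_quotient_mul_card_subgroup NZ
  rw [card_X, card_NZ] at h6
  have h7 : ∃ i < 2, ∃ j < 2, eqm (ky (zw i j)) (kt (c 64)) = true := by decide +kernel
  obtain ⟨i, -, j, -, h7⟩ := h7
  refine ⟨X ⧸ NZ, inferInstance, inferInstance, ψ, φ (ev xX [1, 0, 2, 0, 2, 0, 1, 1, 0, 2, 0, 2, 0, 1, 1]),
    φ (ev xX [1, 1, 0, 1, 0, 2, 0, 1, 1]), MulEquiv.ofBijective β (Finite.injective_iff_bijective.1 h5),
    hi, by omega, Subgroup.mem_center_iff.2 fun a => ?_,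
    ActV.of_basis (fun k hk hv => hq' _ _ _ (by revert k; decide +kernel)) (by decide +kernel),
    ActV.of_basis (fun k hk hv => hq' _ _ _ (by revert k; decide +kernel)) (by decide +kernel), h3⟩
  obtain ⟨g, rfl⟩ := QuotientGroup.mk'_surjective NZ a
  rw [← hq _ _ h7, ev_zw, ← map_mul, ← map_mul, Subgroup.mem_center_iff.1 (zz_cent i j)]

theorem models_four (F : FusionSystem (⊤ : Subgroup (U GF4))) (ρ : GF4) (_ : St F ρ) :
    ∃ (F' : FusionSystem (⊤ : Subgroup (U GF4))) (ρ' : GF4), St F' ρ' ∧ F'.IsRealizable 2 ∧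
      (F.center = ⊥ ↔ F'.center = ⊥) := by
  obtain ⟨G, _, _, ψ, n1, n2, β, hi, hc, hz, h1, h2, h3⟩ := exists_G0
  by_cases hF : F.center = ⊥
  · have := Fact.mk Nat.prime_two
    obtain ⟨k, hk, h4⟩ := exists_pow_primes_dvd β 3
    let j : G →* G ⋊[(zpowers (β ^ k)).subtype] zpowers (β ^ k) := SemidirectProduct.inl
    have : Finite (G ⋊[(zpowers (β ^ k)).subtype] zpowers (β ^ k)) :=
      Finite.of_equiv _ SemidirectProduct.equivProd.symm
    have : j.range.Normal := by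
      rw [SemidirectProduct.range_inl_eq_ker_rightHom]; infer_instance
    have hj : Function.Injective (j.comp ψ) := SemidirectProduct.inl_injective.comp hi
    have h5 := (j.comp ψ).range.card_mul_index
    rw [← Nat.card_congr (MonoidHom.ofInjective hj).toEquiv, card_C,
      SemidirectProduct.card, hc, Nat.card_zpowers] at h5
    have h6 : ∀ {χ : C →* G} {n : G}, ActV χ n N1 → ActV (j.comp χ) (j n) N1 := fun h x hx =>
      ⟨(h x hx).1, by simpa using congrArg j (h x hx).2⟩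
    obtain ⟨F', ρ', H', h7, h8⟩ := model_C (ψ := j.comp ψ) hj
      (fun h => absurd (h4 2 Nat.prime_two (by omega)) (by decide)) j.range (fun x => ⟨_, rfl⟩)
      (by rintro _ ⟨g, rfl⟩; simpa using congrArg j (Subgroup.mem_center_iff.1 hz g)) (h6 h1) (h6 h2)
    refine ⟨F', ρ', H', h7, iff_of_true hF (h8.2 fun z hz => ?_)⟩
    have h9 : ∀ z, z ≠ 1 → (∃ k < 4, c (2 ^ k) * z * (c (2 ^ k))⁻¹ ≠ z) ∨ (V1 z ∧ N1 z ≠ z) ∨
      (T 1 z ≠ z ∧ T 1 (T 1 (T 1 z)) = z) := by decide +kernel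
    rcases h9 z hz with ⟨k, -, h⟩ | h | h
    · exact ⟨_, h, j (ψ (c (2 ^ k))), by simp⟩
    · exact ⟨_, h.2, _, (h6 h1 z h.1).2⟩
    · refine ⟨_, h.1, SemidirectProduct.inr ⟨β ^ k, mem_zpowers _⟩, ?_⟩
      have h10 : β ^ 3 ∈ MulAction.stabilizer (MulAut G) (ψ z) := by
        simp [pow_succ, h3, h.2]
      have h11 : (β ^ k) (ψ z) = ψ (T 1 z) := by
        rw [← Nat.mod_add_div k 3, show k % 3 = 1 from hk, pow_add, pow_mul, pow_one, MulAut.mul_apply,
          show ((β ^ 3) ^ (k / 3)) (ψ z) = ψ z from pow_mem h10 _, h3]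
      rw [← map_inv]
      exact (SemidirectProduct.inl_aut _ _).symm.trans (congrArg j h11)
  · have h5 := ψ.range.card_mul_index
    rw [← Nat.card_congr (MonoidHom.ofInjective hi).toEquiv, card_C, hc] at h5
    obtain ⟨F', ρ', H', h7, h8⟩ := model_C hi (by omega) ⊤ (fun _ => trivial)
      (fun g _ => Subgroup.mem_center_iff.1 hz g) h1 h2
    refine ⟨F', ρ', H', h7, iff_of_false hF fun h => ?_⟩
    obtain ⟨y, hy, g, hg⟩ := h8.1 h (c 64) (by decide)
    rw [Subgroup.mem_center_iff.1 hz g, mul_inv_cancel_right] at hg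
    exact hy (hi hg).symm

theorem isRealizable_two {K : Type*} [Field K] [Fintype K] [CharP K 2]
    {F : FusionSystem (⊤ : Subgroup (U K))} (hF : F.IsSaturated 2) (hc : F.core ≠ ⊥) :
    F.IsRealizable 2 := by
  by_cases hn : F.IsConstrained 2
  · exact isRealizable_of_isConstrained p2 hn
  obtain ⟨F₁, ρ, H, -⟩ := exists_St hF hc hn
  have key : ∀ (K' : Type) [Field K'] [Fintype K'] [CharP K' 2], Fintype.card K = Fintype.card K' →
      (∀ (F : FusionSystem (⊤ : Subgroup (U K'))) ρ, St F ρ →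
        ∃ (F' : FusionSystem (⊤ : Subgroup (U K'))) (ρ' : K'), St F' ρ' ∧ F'.IsRealizable 2 ∧
          (F.center = ⊥ ↔ F'.center = ⊥)) → F.IsRealizable 2 := fun K' _ _ _ e hm => by
    obtain ⟨F', h⟩ := exists_push' (F' := F) (mapU (FiniteField.ringEquivOfCardEq e))
    exact isRealizable_of_push h (real_of_models (h.saturated hF) (core_ne_of_push h hc)
      (fun e => hn (h.symm.constrained e)) hm)
  have h1 : Nat.card Kˣ ∣ 3 := IsCyclic.exponent_eq_card (α := Kˣ) ▸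
    Monoid.exponent_dvd_of_forall_pow_eq_one fun x => Units.ext (mul_right_cancel₀ x.ne_zero (by
      simpa [← pow_succ] using H.pow4 x))
  rw [Nat.card_units, Nat.card_eq_fintype_card] at h1
  have h2 := Fintype.one_lt_card (α := K)
  rcases (Nat.dvd_prime Nat.prime_three).1 h1 with h | h
  · exact key (ZMod 2) (by rw [ZMod.card]; omega) models_two
  · exact key GF4 (by rw [card_GF4]; omega) models_four

theorem isRealizable_U {K : Type*} [Field K] [Fintype K] {p : ℕ} [hp : Fact p.Prime] [CharP K p]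
    {F : FusionSystem (⊤ : Subgroup (U K))} (hF : F.IsSaturated p) (hc : F.core ≠ ⊥) :
    F.IsRealizable p := by
  by_cases h : p = 2
  · subst h
    exact isRealizable_two hF hc
  · exact isRealizable_odd (fun e => h ((Nat.prime_dvd_prime_iff_eq hp.out Nat.prime_two).1
      ((CharP.cast_eq_zero_iff K p 2).1 (by exact_mod_cast e)))) hF hc

end Cfsg.Agent.SpF
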