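import Cfsg.Agent.SpF.TwoC

/-! Fusion systems on the Sylow `2`-subgroup of `Sp₄(2ⁿ)` coming from groups. -/

set_option autoImplicit false
set_option linter.unusedSectionVars false

namespace Cfsg.Agent.SpF

open Subgroup Cfsg.FusionSystem Cfsg.Agent.Fus U

theorem exists_real {Ω G : Type*} [Group Ω] [Finite Ω] [Group G] [Finite G] {p : ℕ} [Fact p.Prime]
    (hΩ : IsPGroup p Ω) {ι : Ω →* G} (hι : Function.Injective ι) (hi : ¬ p ∣ ι.range.index) :
    ∃ F : FusionSystem (⊤ : Subgroup Ω), F.IsSaturated p ∧ F.IsRealizable p ∧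
      ∀ x y, (∃ g, g * ι x * g⁻¹ = ι y) ↔ ∃ P f, IsMap F P f ∧ x ∈ P ∧ f x = y := by
  let j := ι.comp (⊤ : Subgroup Ω).subtype
  have hr : j.range = ι.range := by
    rw [MonoidHom.range_comp, range_subtype, ← MonoidHom.range_eq_map]
  obtain ⟨b, hb⟩ := gIso_of_injective j (hι.comp Subtype.val_injective)
  obtain ⟨F, h⟩ := exists_fIso (groupFusionSystem j.range) hb.symm
  have h1 : F.IsRealizedBy j := isRealizedBy_of_fIso h.symm fun x => (hfn_apply j x.2).symm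
  have h2 : ∃ T : Sylow p G, (T : Subgroup G) = j.range :=
    ⟨(hΩ.of_surjective _ ι.rangeRestrict_surjective).toSylow hi, hr.symm⟩
  have e : ∀ x, hfn j x = ι x := fun x => hfn_apply j (mem_top x)
  refine ⟨F, saturated_of_isRealizedBy h1 h2, isRealizable_of_isRealizedBy h1 h2, fun x y => ⟨?_, ?_⟩⟩
  · rintro ⟨g, hg⟩
    have := Classical.typeDecidableEq G
    have h3 : ∀ z ∈ zpowers x, ι (Function.invFun ι (g * ι z * g⁻¹)) = g * ι z * g⁻¹ := by
      rintro _ ⟨k, rfl⟩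
      exact Function.invFun_eq ⟨y ^ k, by rw [map_zpow, ← hg, conj_zpow, map_zpow]⟩
    exact ⟨zpowers x, fun z => Function.invFun ι (g * ι z * g⁻¹), IsRealizedBy_isMap h1 le_top
      (fun _ _ => trivial) g fun z hz => by rw [e, e, h3 z hz], mem_zpowers x,
      hι ((h3 x (mem_zpowers x)).trans hg)⟩
  · rintro ⟨P, f, hf, hx, rfl⟩
    obtain ⟨g, hg⟩ := IsRealizedBy_exists_conj h1 hf
    exact ⟨g, by rw [← e, ← e, hg x hx]⟩

variable {K : Type*} [Field K] [Fintype K] [CharP K 2]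

theorem exists_model {G : Type*} [Group G] [Finite G] {ι : U K →* G} (hι : Function.Injective ι)
    (hi : ¬ 2 ∣ ι.range.index) (A : Subgroup G) [A.Normal] (hA : ∀ x, ι x ∈ A)
    (hz : ∃ z ≠ 1, ι z ∈ centralizer (A : Set G))
    (hf : ∀ i, ∃ x ∈ sE K i, ∃ y ∉ sE K i, ∃ g, g * ι x * g⁻¹ = ι y) :
    ∃ (F : FusionSystem (⊤ : Subgroup (U K))) (ρ : K), St F ρ ∧ F.IsRealizable 2 ∧
      (F.center = ⊥ ↔ ∀ z ≠ 1, ∃ y ≠ z, ∃ g, g * ι z * g⁻¹ = ι y) := by
  obtain ⟨F, hF, hr, h⟩ := exists_real (isPGroup (K := K) (p := 2)) hι hi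
  have h1 : F.IsNormal ((centralizer (A : Set G)).comap ι) := by
    refine isNormal_of_abelian p2 hF (stronglyClosed_iff.2 ⟨le_top, fun P f hf x hx hx' => ?_⟩)
      fun x hx y _ => hι (by simpa using (hx _ (hA y)).symm)
    obtain ⟨g, hg⟩ := (h x (f x)).2 ⟨P, f, hf, hx, rfl⟩
    rw [mem_comap, ← hg]
    exact Normal.conj_mem inferInstance (ι x) hx' g
  have h2 : F.core ≠ ⊥ := fun e => by
    obtain ⟨z, h3, h4⟩ := hz
    exact h3 (e.le (le_core h1 h4))
  have h3 : ¬ F.IsConstrained 2 := not_constrained fun i => by_contra fun hn => by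
    obtain ⟨x, hx, y, hy, hg⟩ := hf (!i)
    obtain ⟨P, f, h4, h5, rfl⟩ := (h x y).1 hg
    exact hy ((stronglyClosed_iff.1 (stronglyClosed_of_isNormal (normal_of_not_ess hF hn))).2
      P f h4 x h5 hx)
  obtain ⟨F', ρ, H, a, b, h4⟩ := exists_St hF h2 h3
  refine ⟨F', ρ, H, isRealizable_of_push h4.symm hr, (center_iff_of_push h4).trans ?_⟩
  rw [eq_bot_iff_forall]
  refine forall_congr' fun z => ?_
  rw [Fus.mem_center_iff p2 hF, ← not_imp_not, ne_eq]
  refine imp_congr_right fun _ => ⟨fun hn => ?_, fun ⟨y, hy, hg⟩ hc => ?_⟩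
  · by_contra hc
    exact hn ⟨trivial, fun P f h5 h6 => by_contra fun e => hc ⟨_, e, (h _ _).2 ⟨P, f, h5, h6, rfl⟩⟩⟩
  · obtain ⟨P, f, h5, h6, rfl⟩ := (h _ _).1 hg
    exact hy (hc.2 P f h5 h6)

theorem real_of_models {F : FusionSystem (⊤ : Subgroup (U K))} (hF : F.IsSaturated 2) (hc : F.core ≠ ⊥)
    (hn : ¬ F.IsConstrained 2) (hm : ∀ (F : FusionSystem (⊤ : Subgroup (U K))) ρ, St F ρ →
      ∃ (F' : FusionSystem (⊤ : Subgroup (U K))) (ρ' : K), St F' ρ' ∧ F'.IsRealizable 2 ∧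
        (F.center = ⊥ ↔ F'.center = ⊥)) : F.IsRealizable 2 := by
  obtain ⟨F₁, ρ, H, a, b, h⟩ := exists_St hF hc hn
  obtain ⟨F₂, ρ', H', h1, h2⟩ := hm F₁ ρ H
  obtain rfl := fs_le_antisymm (H.le H' h2.1) (H'.le H h2.2)
  exact isRealizable_of_push h h1

/-- Change of the field. -/
def mapU {K' : Type*} [Field K'] (e : K ≃+* K') : U K ≃* U K' where
  toFun x := ⟨e x.t, e x.u, e x.v, e x.w⟩
  invFun x := ⟨e.symm x.t, e.symm x.u, e.symm x.v, e.symm x.w⟩
  left_inv x := by ext <;> simp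
  right_inv x := by ext <;> simp
  map_mul' x y := by ext <;> simp [map_ofNat]

theorem models_two (F : FusionSystem (⊤ : Subgroup (U (ZMod 2)))) (ρ : ZMod 2) (H : St F ρ) :
    ∃ (F' : FusionSystem (⊤ : Subgroup (U (ZMod 2)))) (ρ' : ZMod 2), St F' ρ' ∧ F'.IsRealizable 2 ∧
      (F.center = ⊥ ↔ F'.center = ⊥) := by
  let ι : U (ZMod 2) →* Matrix.SpecialLinearGroup (Fin 3) (ZMod 2) × Multiplicative (ZMod 2) :=
    MonoidHom.mk' (fun x => (SL3.u x.t x.u x.v, Multiplicative.ofAdd (x.v + x.w))) fun x y =>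
      Prod.ext (SL3.u_mul ..).symm (by
        obtain ⟨a, b, c, d⟩ := x
        obtain ⟨a', b', c', d'⟩ := y
        simp only [mul_v, mul_w, Prod.snd_mul, ← ofAdd_add]
        congr 1
        revert a b c d a' b' c' d'
        decide +kernel)
  have hι : Function.Injective ι := fun x y e => by
    obtain ⟨h1, h2, h3⟩ := SL3.u_inj.1 (congrArg Prod.fst e)
    have h4 : x.v + x.w = y.v + y.w := congrArg (fun g => g.2.toAdd) e
    exact U.ext h1 h2 h3 (by rwa [h3, add_right_inj] at h4)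
  have hc : Nat.card (Matrix.SpecialLinearGroup (Fin 3) (ZMod 2)) = 168 := by
    have h := Class.card_units_mul_card_SL (ι := Fin 3) (R := ZMod 2)
    rw [Matrix.card_GL_field, Nat.card_units, Nat.card_eq_fintype_card (α := ZMod 2), ZMod.card] at h
    simpa [Fin.prod_univ_three] using h
  have hi := ι.range.card_mul_index
  rw [← Nat.card_congr (MonoidHom.ofInjective hι).toEquiv, card_U, Nat.card_prod, hc,
    Nat.card_congr Multiplicative.toAdd, Nat.card_zmod] at hi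
  obtain ⟨F', ρ', H', h1, -⟩ := exists_model hι (by omega) ⊤ (fun _ => trivial)
    ⟨⟨0, 0, 0, 1⟩, fun e => one_ne_zero (congrArg U.w e), fun g _ => Prod.ext (by
      change _ * SL3.u 0 0 0 = SL3.u 0 0 0 * _
      simp [SL3.u_zero]) (mul_comm _ _)⟩ (by
    rintro (_ | _)
    · refine ⟨⟨0, 0, 1, 0⟩, rfl, ⟨0, 1, 0, 1⟩, one_ne_zero,
        (⟨!![0, 1, 0; 1, 0, 0; 0, 0, 1], by decide⟩, 1), ?_⟩
      rw [mul_inv_eq_iff_eq_mul]
      exact Prod.ext (Subtype.ext (by decide +kernel)) rfl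
    · refine ⟨⟨0, 0, 1, 0⟩, rfl, ⟨1, 0, 0, 1⟩, one_ne_zero,
        (⟨!![1, 0, 0; 0, 0, 1; 0, 1, 0], by decide⟩, 1), ?_⟩
      rw [mul_inv_eq_iff_eq_mul]
      exact Prod.ext (Subtype.ext (by decide +kernel)) rfl)
  refine ⟨F', ρ', H', h1, ?_⟩
  rw [H.center_iff, H'.center_iff]
  exact iff_of_false (fun ⟨_, _, _, h⟩ => h (Subsingleton.elim _ _))
    fun ⟨_, _, _, h⟩ => h (Subsingleton.elim _ _)

end Cfsg.Agent.SpF
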