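import Mathlib
import Cfsg.Agent.SpF.Sh

/-! Groups acting on `K³` in characteristic two with a Sylow subgroup acting quadratically. -/

set_option autoImplicit false
set_option linter.unusedSectionVars false

namespace Cfsg.Agent.SpF

open Subgroup

variable {K G : Type*} [Field K] [Fintype K] [CharP K 2] [Group G] [Finite G]
  [DistribMulAction G (K × K × K)]

/-- The action of the Sylow subgroup. -/
structure M2 (P : Sylow 2 G) (τ : K → G) (B : K → K → K) : Prop where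
  mem : ∀ s, s ∈ (P : Subgroup G) ↔ ∃ t, τ t = s
  act : ∀ t (x : K × K × K), τ t • x = (x.1, x.2.1 + t * x.1, x.2.2 + B t x.1)
  add : ∀ s s' x, B (s + s') x = B s x + B s' x
  zero : ∀ s, B s 0 = 0
  cover : ∀ v w, v ≠ 0 → w ≠ 0 → ∃ x ≠ 0, B (v / x) x = w

/-- `g` preserves the plane `x = 0`. -/
def Pres (K : Type*) [Field K] {G : Type*} [Group G] [DistribMulAction G (K × K × K)] (g : G) : Prop :=
  ∀ x : K × K × K, x.1 = 0 → (g • x).1 = 0

theorem Pres.inv {g : G} (h : Pres K g) : Pres K g⁻¹ := by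
  obtain ⟨n, hn⟩ := mem_powers_iff_mem_zpowers.2 (inv_mem (mem_zpowers g))
  rw [← hn]
  clear hn
  induction n with
  | zero => simp [Pres]
  | succ n ih => exact fun x hx => by simpa [pow_succ, mul_smul] using ih _ (h x hx)

theorem exists_of_not_pres {g : G} (h : ¬ Pres K g) :
    ∃ x : K × K × K, (g⁻¹ • x).1 = 0 ∧ x.1 ≠ 0 := by
  simp only [Pres, not_forall] at h
  obtain ⟨x, h1, h2⟩ := h
  exact ⟨g • x, by simpa using h1, h2⟩

namespace M2

variable {P : Sylow 2 G} {τ : K → G} {B : K → K → K} (H : M2 P τ B)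
include H

theorem fix (t : K) {x : K × K × K} (hx : x.1 = 0) : τ t • x = x := by
  simp [H.act, hx, H.zero, Prod.ext_iff]

theorem sq (t : K) (x : K × K × K) : τ t • τ t • x = x := by
  simp [H.act, add_assoc, CharTwo.add_self_eq_zero]

theorem step {g : G} {x d : K × K × K} (hx : (g⁻¹ • x).1 = 0) (hd : (g⁻¹ • d).1 = 0) (s : K)
    (e : d = (0, s * x.1, B s x.1)) : d = 0 := by
  have key : ∀ y : K × K × K, (g⁻¹ • y).1 = 0 → ∀ a ∈ ((g • P : Sylow 2 G) : Subgroup G), a • y = y :=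
    fun y hy a ha => by
      obtain ⟨t, ht⟩ := (H.mem _).1 ((mem_smul_sylow P g a).1 ha)
      have := H.fix t hy
      rwa [ht, mul_smul, mul_smul, smul_inv_smul, smul_left_cancel_iff] at this
  exact eq_zero_of_step (g • P) (key x hx) (key d hd) (pElt_of_mem P ((H.mem _).2 ⟨s, rfl⟩))
    (H.fix s (by rw [e])) (by simp [H.act, e, Prod.ext_iff])

theorem surj {g : G} (hg : ¬ Pres K g) (a : K) : ∃ x : K × K × K, (g⁻¹ • x).1 = 0 ∧ x.1 = a := by
  obtain ⟨x₀, h1, h2⟩ := exists_of_not_pres hg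
  have hi : Function.Injective fun y : K × K => ((g • ((0 : K), y)).1,
      (g • ((0 : K), y)).2.2 - B ((g • ((0 : K), y)).2.1 / x₀.1) x₀.1) := fun y z e => by
    obtain ⟨e1, e2⟩ := Prod.ext_iff.1 e
    have h3 := H.add (((g • ((0 : K), y)).2.1 - (g • ((0 : K), z)).2.1) / x₀.1)
      ((g • ((0 : K), z)).2.1 / x₀.1) x₀.1
    rw [← add_div, sub_add_cancel] at h3
    have := H.step (d := g • ((0 : K), y) - g • ((0 : K), z)) h1 (by simp [smul_sub])
      (((g • ((0 : K), y)).2.1 - (g • ((0 : K), z)).2.1) / x₀.1)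
      (Prod.ext (sub_eq_zero.2 e1) (Prod.ext (by simp [h2]) (by
        simp only [Prod.snd_sub] at e2 ⊢; linear_combination e2 + h3)))
    simpa [sub_eq_zero] using this
  obtain ⟨y, hy⟩ := Finite.injective_iff_surjective.1 hi (a, 0)
  exact ⟨g • ((0 : K), y), by simp, congrArg Prod.fst hy⟩

theorem line {g : G} (hg : ¬ Pres K g) {d : K × K × K} (hd : (g⁻¹ • d).1 = 0) (hd' : d.1 = 0) :
    d.2.1 = 0 ∨ d.2.2 = 0 := by
  by_contra! h
  obtain ⟨a, ha, e⟩ := H.cover _ _ h.1 h.2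
  obtain ⟨x, h1, rfl⟩ := H.surj hg a
  exact h.1 (by rw [H.step h1 hd (d.2.1 / x.1) (Prod.ext hd' (Prod.ext (by simp [ha]) e.symm))]; rfl)

variable {ρ : K} (hρ : ρ ≠ 0) (hr : ∀ g : G, (g • ((0 : K), (0 : K), ρ)).1 = 0)
include hρ hr

theorem line' {g : G} (hg : ¬ Pres K g) {d : K × K × K} (hd : (g⁻¹ • d).1 = 0) (hd' : d.1 = 0) :
    d.2.1 = 0 := by
  by_contra h
  have h1 := (H.line hg hd hd').resolve_left h
  have h2 := H.line hg (d := d + (0, 0, ρ)) (by simp [smul_add, hd, hr]) (by simp [hd'])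
  simp [h, h1, hρ] at h2

theorem memD (g : G) (w : K) : (g • ((0 : K), (0 : K), w)).1 = 0 := by
  by_cases hg : Pres K g⁻¹
  · simpa using hg.inv (0, 0, w) rfl
  have hi : Function.Injective fun y : K × K => ((g⁻¹ • ((0 : K), y)).1, (g⁻¹ • ((0 : K), y)).2.2) :=
    fun y z e => by
      obtain ⟨e1, e2⟩ := Prod.ext_iff.1 e
      have h1 := H.line' hρ hr hg (d := g⁻¹ • ((0 : K), y) - g⁻¹ • ((0 : K), z)) (by simp [smul_sub])
        (sub_eq_zero.2 e1)
      have : g⁻¹ • ((0 : K), y) = g⁻¹ • ((0 : K), z) := Prod.ext e1 (Prod.ext (sub_eq_zero.1 h1) e2)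
      simpa using this
  obtain ⟨y, hy⟩ := Finite.injective_iff_surjective.1 hi (0, w)
  obtain ⟨e1, e2⟩ := Prod.ext_iff.1 hy
  have h1 := H.line' hρ hr hg (d := g⁻¹ • ((0 : K), y)) (by simp) e1
  rw [show ((0 : K), (0 : K), w) = g⁻¹ • ((0 : K), y) from Prod.ext e1.symm (Prod.ext h1.symm e2.symm)]
  simp

theorem invD {g : G} (hg : ¬ Pres K g) (h : G) (w : K) :
    ∃ w', h • ((0 : K), (0 : K), w) = (0, 0, w') :=
  ⟨_, Prod.ext (H.memD hρ hr h w) (Prod.ext (H.line' hρ hr hg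
    (by rw [← mul_smul]; exact H.memD hρ hr _ w) (H.memD hρ hr h w)) rfl)⟩

theorem ti {g : G} {x : K × K × K} (h1 : x.1 = 0) (h2 : x.2.1 ≠ 0) (h3 : (g • x).1 = 0) : Pres K g := by
  by_contra hg
  exact h2 (H.line' hρ hr (g := g⁻¹) (fun h => hg (by simpa using h.inv)) (by simpa using h3) h1)

theorem exists_graph {g₀ : G} (hg : ¬ Pres K g₀) :
    ∃ (g : G) (ψ : K →+ K), ψ 1 = 0 ∧ ∀ x w : K, (g⁻¹ • (x, ψ x, w)).1 = 0 := by
  choose f h1 h2 using H.surj hg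
  have h3 : ∀ y : K × K × K, (g₀⁻¹ • y).1 = 0 → y.2.1 = (f y.1).2.1 := fun y hy =>
    sub_eq_zero.1 (H.line' hρ hr hg (d := y - f y.1) (by simp [smul_sub, hy, h1]) (by simp [h2]))
  refine ⟨τ (f 1).2.1 * g₀, AddMonoidHom.mk' (fun a => (f a).2.1 + (f 1).2.1 * a) fun a b => ?_,
    by simp [CharTwo.add_self_eq_zero], fun x w => ?_⟩
  · have := h3 (f a + f b) (by simp [smul_add, h1])
    simp only [Prod.snd_add, Prod.fst_add, h2] at this
    linear_combination -this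
  · have : (τ (f 1).2.1)⁻¹ • (x, (f x).2.1 + (f 1).2.1 * x, w) =
        f x + (0, 0, w - B (f 1).2.1 x - (f x).2.2) := by
      rw [inv_smul_eq_iff, H.act]
      simp [h2]
    simp [mul_smul, this, smul_add, h1, H.memD hρ hr]

theorem exists_swap {g : G} {ψ : K → K} (h0 : ψ 1 = 0) (hψ : ∀ x w : K, (g⁻¹ • (x, ψ x, w)).1 = 0)
    {κ : K} (hκ : κ ≠ 0) : ∃ (ω : G) (c : K →+ K), ∀ x v w : K,
      ω • (x, v + ψ x, w) = (v / κ, κ * x + ψ (v / κ), w + c (v + κ * x)) := by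
  have hg : ¬ Pres K g := fun h => by simpa using h _ (hψ 1 0)
  have h1 : ∀ y : K × K × K, (g⁻¹ • y).1 = 0 → y.2.1 = ψ y.1 := fun y hy =>
    sub_eq_zero.1 (H.line' hρ hr hg (d := y - (y.1, ψ y.1, 0)) (by simp [smul_sub, hy, hψ]) (by simp))
  have h2 : (g⁻¹ • ((0 : K), κ, (0 : K))).1 ≠ 0 := fun e => hκ (H.line' hρ hr hg e rfl)
  obtain ⟨s, hs⟩ : ∃ s, ((g * τ s * g⁻¹) • ((0 : K), κ, (0 : K))).1 = 1 := by
    refine ⟨(g⁻¹ • ((1 : K), ψ 1, (0 : K))).2.1 / (g⁻¹ • ((0 : K), κ, (0 : K))).1, ?_⟩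
    have h3 := hψ 1 0
    generalize hm : g⁻¹ • ((1 : K), ψ 1, (0 : K)) = m at h3
    have : τ (m.2.1 / (g⁻¹ • ((0 : K), κ, (0 : K))).1) • g⁻¹ • ((0 : K), κ, (0 : K)) =
        g⁻¹ • ((0 : K), κ, (0 : K)) + m + (0, 0, B (m.2.1 / (g⁻¹ • ((0 : K), κ, (0 : K))).1)
          (g⁻¹ • ((0 : K), κ, (0 : K))).1 - m.2.2) := by
      simp [H.act, Prod.ext_iff, h3, h2]
    rw [mul_smul, mul_smul, this, ← hm]
    simp [smul_add, H.memD hρ hr]
  have h3 : ∀ y : K × K × K, (g⁻¹ • ((g * τ s * g⁻¹) • y - y)).1 = 0 := fun y => by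
    simp [smul_sub, mul_smul, H.act]
  have h4 : ∀ w : K, (g * τ s * g⁻¹) • ((0 : K), (0 : K), w) = (0, 0, w) := fun w => by
    rw [mul_smul, mul_smul, H.fix s (H.memD hρ hr _ w), smul_inv_smul]
  have h5 : ∀ y : K × K × K, (g * τ s * g⁻¹) • (g * τ s * g⁻¹) • y = y := fun y => by
    simp [mul_smul, H.sq]
  generalize g * τ s * g⁻¹ = a at hs h3 h4 h5
  have h6 : ∀ v : K, ((τ κ * a * τ κ) • ((0 : K), v, (0 : K))).1 = (a • ((0 : K), v, (0 : K))).1 ∧
      ((τ κ * a * τ κ) • ((0 : K), v, (0 : K))).2.1 = v + ψ (a • ((0 : K), v, (0 : K))).1 +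
        κ * (a • ((0 : K), v, (0 : K))).1 := fun v => by
    have := h1 _ (h3 (0, v, 0))
    simp only [Prod.snd_sub, Prod.fst_sub, sub_zero] at this
    rw [mul_smul, mul_smul, H.fix κ (x := (0, v, 0)) rfl, H.act]
    exact ⟨rfl, by simp only; linear_combination this⟩
  have h7 : ∀ w : K, (τ κ * a * τ κ) • ((0 : K), (0 : K), w) = (0, 0, w) := fun w => by
    rw [mul_smul, mul_smul, H.fix κ (x := (0, 0, w)) rfl, h4, H.fix κ rfl]
  have h8 : ∀ y : K × K × K, (τ κ * a * τ κ) • (τ κ * a * τ κ) • y = y := fun y => by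
    simp [mul_smul, H.sq, h5]
  generalize τ κ * a * τ κ = ω at h6 h7 h8
  have h9 : Pres K (g⁻¹ * ω) := H.ti hρ hr (x := (0, κ, 0)) rfl hκ (by
    rw [mul_smul, show ω • ((0 : K), κ, (0 : K)) = (1, ψ 1, (ω • ((0 : K), κ, (0 : K))).2.2) from
      Prod.ext ((h6 κ).1.trans hs) (Prod.ext (by
        rw [(h6 κ).2, hs, h0]; simp [CharTwo.add_self_eq_zero]) rfl), hψ])
  let c : K →+ K := AddMonoidHom.mk' (fun v => (ω • ((0 : K), v, (0 : K))).2.2) fun v v' => by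
    rw [← Prod.snd_add, ← Prod.snd_add, ← smul_add]; simp
  have h10 : ∀ v : K, ω • ((0 : K), v, (0 : K)) = (v / κ, ψ (v / κ), c v) := fun v => by
    have a1 := h1 _ (by rw [← mul_smul]; exact h9 (0, v, 0) rfl)
    have a2 := (h6 v).2
    rw [← (h6 v).1, a1] at a2
    have a3 : (ω • ((0 : K), v, (0 : K))).1 = v / κ := by
      rw [eq_div_iff hκ]
      linear_combination (exp := 1) -a2 - v * (CharTwo.two_eq_zero (R := K))
    exact Prod.ext a3 (Prod.ext (a3 ▸ a1) rfl)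
  refine ⟨ω, c, fun x v w => ?_⟩
  have h11 := h8 (0, κ * x, 0)
  rw [h10, mul_div_cancel_left₀ _ hκ] at h11
  rw [show (x, v + ψ x, w) = (x, ψ x, c (κ * x)) + (0, v, 0) + (0, 0, w - c (κ * x)) from
    Prod.ext (by simp) (Prod.ext (by simp; ring) (by simp)), smul_add, smul_add, h11, h10, h7, map_add,
    CharTwo.sub_eq_add]
  exact Prod.ext (by simp) (Prod.ext (by simp) (by simp only [Prod.snd_add]; ring))

theorem gen {ω : G} (hω : ∀ x v w : K, ω • (x, v, w) = (v, x, w)) (h : G) :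
    Pres K h ∨ ∃ s, Pres K (ω * τ s * h) := by
  refine or_iff_not_imp_left.2 fun hh => ?_
  obtain ⟨x, h1, h2⟩ := H.surj hh 1
  refine ⟨x.2.1, H.ti hρ hr h1 (fun e => ?_) (by
    simp [mul_smul, H.act, hω, h2, CharTwo.add_self_eq_zero])⟩
  have := H.memD hρ hr h (h⁻¹ • x).2.2
  rw [show ((0 : K), (0 : K), (h⁻¹ • x).2.2) = h⁻¹ • x from Prod.ext h1.symm (Prod.ext e.symm rfl)] at this
  simp [h2] at this

end M2

end Cfsg.Agent.SpF
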