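import Cfsg.Agent.SpF.U

/-! The Sylow `2`-subgroup of `Sp₄(2ⁿ)` and some of its automorphisms. -/

set_option autoImplicit false
set_option linter.unusedSectionVars false

namespace Cfsg.Agent.SpF

open Subgroup U

variable {K : Type*} [Field K]

/-- The two maximal elementary abelian subgroups. -/
def sE (K : Type*) [Field K] : Bool → Subgroup (U K)
  | true => sA K
  | false => sB K

/-- The first coordinate on `sE i`. -/
def fs : Bool → U K → K
  | true, y => y.u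
  | false, y => y.t

/-- The element of `sE i` with given coordinates. -/
def em : Bool → K × K × K → U K
  | true, x => ⟨0, x.1, x.2.1, x.2.2⟩
  | false, x => ⟨x.1, 0, x.2.1, x.2.2⟩

/-- Coordinates on `sE i`. -/
def co (i : Bool) (y : U K) : K × K × K := (fs i y, y.v, y.w)

/-- The quadratic term. -/
def Bf : Bool → K → K → K
  | true, s, x => s ^ 2 * x
  | false, s, x => x ^ 2 * s

/-- The swap on `sE i`. -/
def sw (i : Bool) (y : U K) : U K := em i (y.v, fs i y, y.w)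

theorem mem_sE {i : Bool} {y : U K} : y ∈ sE K i ↔ fs (!i) y = 0 := by cases i <;> rfl
@[simp] theorem em_mem (i : Bool) (x : K × K × K) : em i x ∈ sE K i := by cases i <;> rfl
@[simp] theorem fs_em (i : Bool) (x : K × K × K) : fs i (em i x) = x.1 := by cases i <;> rfl
@[simp] theorem fs_em' (i : Bool) (x : K × K × K) : fs (!i) (em i x) = 0 := by cases i <;> rfl
@[simp] theorem fs_em'' (i : Bool) (x : K × K × K) : fs i (em (!i) x) = 0 := by cases i <;> rfl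
@[simp] theorem v_em (i : Bool) (x : K × K × K) : (em i x).v = x.2.1 := by cases i <;> rfl
@[simp] theorem w_em (i : Bool) (x : K × K × K) : (em i x).w = x.2.2 := by cases i <;> rfl
@[simp] theorem co_em (i : Bool) (x : K × K × K) : co i (em i x) = x := by cases i <;> rfl
@[simp] theorem fs_mul (i : Bool) (x y : U K) : fs i (x * y) = fs i x + fs i y := by cases i <;> rfl
@[simp] theorem fs_inv (i : Bool) (x : U K) : fs i x⁻¹ = -fs i x := by cases i <;> rfl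
@[simp] theorem fs_one (i : Bool) : fs i (1 : U K) = 0 := by cases i <;> rfl
theorem sw_mem (i : Bool) (y : U K) : sw i y ∈ sE K i := em_mem _ _
@[simp] theorem sw_em (i : Bool) (x : K × K × K) : sw i (em i x) = em i (x.2.1, x.1, x.2.2) := by
  simp [sw]
theorem em_zero (i : Bool) (v w : K) : em i (0, v, w) = ⟨0, 0, v, w⟩ := by cases i <;> rfl

theorem em_co {i : Bool} {y : U K} (hy : y ∈ sE K i) : em i (co i y) = y := by
  cases i
  exacts [U.ext rfl hy.symm rfl rfl, U.ext hy.symm rfl rfl rfl]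

theorem exists_em {i : Bool} {y : U K} (hy : y ∈ sE K i) : ∃ a v w, y = em i (a, v, w) :=
  ⟨_, _, _, (em_co hy).symm⟩

theorem mem_sY' (i : Bool) {y : U K} : y ∈ sY K ↔ y ∈ sE K i ∧ fs i y = 0 := by
  cases i
  exacts [and_comm, Iff.rfl]

theorem sY_le (i : Bool) : sY K ≤ sE K i := fun _ h => ((mem_sY' i).1 h).1

theorem sE_conj (i : Bool) (g : U K) {y : U K} (hy : y ∈ sE K i) : g * y * g⁻¹ ∈ sE K i := by
  simpa [mem_sE] using hy

theorem decomp (x : U K) : ∃ a b v w, x = ⟨0, 0, v, w⟩ * (⟨0, b, 0, 0⟩ * ⟨a, 0, 0, 0⟩) :=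
  ⟨x.t, x.u, x.v, x.w, by ext <;> simp⟩

variable [CharP K 2]

theorem co_mul {i : Bool} {y z : U K} (hy : y ∈ sE K i) (hz : z ∈ sE K i) :
    co i (y * z) = co i y + co i z := by
  cases i
  · simp [co, mem_sB.1 hz, CharTwo.two_eq_zero]
  · simp [co, mem_sA.1 hy]

theorem em_add (i : Bool) (x y : K × K × K) : em i (x + y) = em i x * em i y := by
  rw [← em_co (mul_mem (em_mem i x) (em_mem i y)), co_mul (em_mem i x) (em_mem i y), co_em, co_em]

theorem co_conj {i : Bool} (g : U K) {y : U K} (hy : y ∈ sE K i) : co i (g * y * g⁻¹) =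
    (fs i y, y.v + fs (!i) g * fs i y, y.w + Bf i (fs (!i) g) (fs i y)) := by
  cases i
  · have := mem_sB.1 hy
    simp only [co, fs, Bf, conj_t, conj_v, conj_w, Bool.not_false, Prod.mk.injEq, true_and]
    grind
  · have := mem_sA.1 hy
    simp only [co, fs, Bf, conj_u, conj_v, conj_w, Bool.not_true, Prod.mk.injEq, true_and]
    grind

theorem comm_iff2 {x y : U K} : x * y = y * x ↔ x.t * y.u = y.t * x.u ∧ x.t ^ 2 * y.u = y.t ^ 2 * x.u := by
  simp [comm_iff, CharTwo.two_eq_zero]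

theorem sE_comm {i : Bool} {y z : U K} (hy : y ∈ sE K i) (hz : z ∈ sE K i) : y * z = z * y := by
  cases i
  · simp [comm_iff2, mem_sB.1 hy, mem_sB.1 hz]
  · simp [comm_iff2, mem_sA.1 hy, mem_sA.1 hz]

theorem sY_comm {z : U K} (hz : z ∈ sY K) (y : U K) : z * y = y * z := by simp [comm_iff2, hz.1, hz.2]

theorem sY_conj (g : U K) {z : U K} (hz : z ∈ sY K) : g * z * g⁻¹ = z := by
  rw [← sY_comm hz, mul_inv_cancel_right]

theorem mem_sE_of_comm {i : Bool} {x y : U K} (hx : x ∈ sE K i) (hx' : x ∉ sY K) (h : x * y = y * x) :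
    y ∈ sE K i := by
  have := comm_iff2.1 h
  cases i
  · simp only [sE, mem_sB, mem_sY] at *; grind
  · simp only [sE, mem_sA, mem_sY] at *; grind

theorem sq_iff {x : U K} : x * x = 1 ↔ ∃ i, x ∈ sE K i := by
  simp only [Bool.exists_bool, sE, mem_sA, mem_sB, U.ext_iff, mul_t, mul_u, mul_v, mul_w, one_t, one_u,
    one_v, one_w]
  grind

theorem aut_cases (φ : MulAut (U K)) (i : Bool) : ∃ j, ∀ x ∈ sE K i, φ x ∈ sE K j := by
  have h : ∀ x ∈ sE K i, (φ x).u = 0 ∨ (φ x).t = 0 := fun x hx => by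
    simpa [sE] using sq_iff.1 (by rw [← map_mul, sq_iff.2 ⟨i, hx⟩, map_one] : φ x * φ x = 1)
  by_contra! hc
  obtain ⟨a, ha, h1⟩ := hc true
  obtain ⟨b, hb, h2⟩ := hc false
  have := h _ (mul_mem ha hb)
  have := h a ha
  have := h b hb
  simp only [sE, mem_sA, mem_sB, map_mul, mul_t, mul_u] at *
  grind

omit [CharP K 2] in
theorem aut_ne (φ : MulAut (U K)) {i j : Bool} (h1 : ∀ x ∈ sE K i, φ x ∈ sE K j)
    (h2 : ∀ x ∈ sE K (!i), φ x ∈ sE K j) : False := by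
  have : ∀ x, φ x ∈ sE K j := fun x => by
    obtain ⟨a, b, v, w, rfl⟩ := decomp x
    rw [map_mul, map_mul]
    cases i
    exacts [mul_mem (h1 _ rfl) (mul_mem (h2 _ rfl) (h1 _ rfl)),
      mul_mem (h1 _ rfl) (mul_mem (h1 _ rfl) (h2 _ rfl))]
  simpa [mem_sE] using this (φ⁻¹ (em (!j) (1, 0, 0)))

theorem aut_sq (φ : MulAut (U K)) (i : Bool) : ∀ x ∈ sE K i, (φ ^ 2) x ∈ sE K i := by
  obtain ⟨j, hj⟩ := aut_cases φ i
  obtain ⟨k, hk⟩ := aut_cases φ (!i)
  intro x hx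
  rw [sq, MulAut.mul_apply]
  by_cases e : j = i
  · subst e; exact hj _ (hj x hx)
  · obtain rfl : j = !i := Bool.eq_not_of_ne e
    obtain rfl : k = i := by_contra fun e => aut_ne φ hj (Bool.eq_not_of_ne e ▸ hk)
    exact hk _ (hj x hx)

/-- Diagonal automorphisms. -/
def dg (μ ν : Kˣ) : MulAut (U K) where
  toFun x := ⟨μ * x.t, ν * x.u, μ * ν * x.v, μ ^ 2 * ν * x.w⟩
  invFun x := ⟨μ⁻¹ * x.t, ν⁻¹ * x.u, μ⁻¹ * ν⁻¹ * x.v, μ⁻¹ ^ 2 * ν⁻¹ * x.w⟩
  left_inv x := by ext <;> simp <;> field_simp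
  right_inv x := by ext <;> simp <;> field_simp
  map_mul' x y := by ext <;> simp <;> ring

omit [CharP K 2] in
theorem dg_apply (μ ν : Kˣ) (x : U K) :
    dg μ ν x = ⟨μ * x.t, ν * x.u, μ * ν * x.v, μ ^ 2 * ν * x.w⟩ := rfl

omit [CharP K 2] in
theorem dg_mul (μ ν μ' ν' : Kˣ) : dg μ ν * dg μ' ν' = dg (μ * μ') (ν * ν') := by
  ext x <;> simp [dg_apply] <;> ring

/-- Central automorphisms. -/
def ct (ψ c : Bool → K →+ K) : MulAut (U K) :=
  have h : Function.Involutive fun x : U K => (⟨x.t, x.u, x.v + ψ false x.t + ψ true x.u,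
      x.w + c false x.t + c true x.u⟩ : U K) := fun x => by ext <;> simp <;> grind
  { h.toPerm with map_mul' := fun x y => by ext <;> simp <;> grind }

theorem ct_apply (ψ c : Bool → K →+ K) (x : U K) : ct ψ c x = ⟨x.t, x.u,
    x.v + ψ false x.t + ψ true x.u, x.w + c false x.t + c true x.u⟩ := rfl

theorem ct_em (ψ c : Bool → K →+ K) (i : Bool) (a v w : K) :
    ct ψ c (em i (a, v, w)) = em i (a, v + ψ i a, w + c i a) := by
  cases i <;> exact U.ext rfl rfl (by simp [ct_apply, em]) (by simp [ct_apply, em])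

theorem ct_ct (ψ c : Bool → K →+ K) (x : U K) : ct ψ c (ct ψ c x) = x := (ct ψ c).left_inv x

/-- The graph automorphism. -/
noncomputable def gr [Finite K] : MulAut (U K) :=
  MulEquiv.ofBijective (MonoidHom.mk' (fun x : U K =>
    (⟨x.u, x.t ^ 2, x.w + x.u * x.t ^ 2, x.v ^ 2 + x.u ^ 2 * x.t ^ 2⟩ : U K)) fun x y => by
      ext <;> simp <;> grind) (Finite.injective_iff_bijective.1 ((injective_iff_map_eq_one _).2
        fun x hx => by
          simp only [MonoidHom.mk'_apply, U.ext_iff, one_t, one_u, one_v, one_w] at hx ⊢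
          grind))

theorem gr_apply [Finite K] (x : U K) :
    gr x = ⟨x.u, x.t ^ 2, x.w + x.u * x.t ^ 2, x.v ^ 2 + x.u ^ 2 * x.t ^ 2⟩ := rfl

/-- The basic relations for an automorphism preserving `sA`, `sB`, `sZ`. -/
theorem aut_rel {φ : MulAut (U K)} (h : ∀ i, ∀ x ∈ sE K i, φ x ∈ sE K i) (hZ : ∀ x ∈ sZ K, φ x ∈ sZ K)
    (t u : K) : (φ ⟨t, 0, 0, 0⟩).t * (φ ⟨0, u, 0, 0⟩).u = (φ ⟨0, 0, t * u, 0⟩).v ∧
      (φ ⟨t, 0, 0, 0⟩).t ^ 2 * (φ ⟨0, u, 0, 0⟩).u =
        (φ ⟨0, 0, t * u, 0⟩).w + (φ ⟨0, 0, 0, t ^ 2 * u⟩).w := by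
  have e : (⟨t, 0, 0, 0⟩ : U K) * ⟨0, u, 0, 0⟩ =
      ⟨0, 0, 0, t ^ 2 * u⟩ * (⟨0, 0, t * u, 0⟩ * (⟨0, u, 0, 0⟩ * ⟨t, 0, 0, 0⟩)) := by ext <;> simp
  have e := congrArg φ e
  have h1 := mem_sB.1 (h false ⟨t, 0, 0, 0⟩ rfl)
  have h2 := mem_sA.1 (h true ⟨0, u, 0, 0⟩ rfl)
  have h3 := mem_sA.1 (h true ⟨0, 0, t * u, 0⟩ rfl)
  have h4 := hZ ⟨0, 0, 0, t ^ 2 * u⟩ ⟨rfl, rfl, rfl⟩
  simp only [map_mul, U.ext_iff, mul_t, mul_u, mul_v, mul_w, h1, h2, h3, h4.1, h4.2.1, h4.2.2] at e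
  grind

end Cfsg.Agent.SpF
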