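import Cfsg.Agent.SpF.TwoA
import Cfsg.Agent.SpF.M2
import Cfsg.Agent.SpF.Tools

/-! Saturated fusion systems on a Sylow `2`-subgroup of `Sp₄(2ⁿ)`: the automizers. -/

set_option autoImplicit false
set_option linter.unusedSectionVars false

namespace Cfsg.Agent.SpF

open Subgroup Cfsg.FusionSystem Cfsg.Agent.Fus U

variable {K : Type*} [Field K] [Fintype K] [CharP K 2] {F : FusionSystem (⊤ : Subgroup (U K))}

theorem p2 : IsPGroup 2 (⊤ : Subgroup (U K)) := pU U.isPGroup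

theorem not_inv_sY (hF : F.IsSaturated 2) {E : Subgroup (U K)} (hE : F.IsEssential 2 E) :
    ¬ ∀ α ∈ F.autGroup E, ∀ y ∈ E, y ∈ sY K → afn α y ∈ sY K := fun hi =>
  (essential_lt p2 hF hE).not_ge fun g _ => mem_of_three p2 hE hi hi (fun y hy => by
    simpa only [inv_mul_cancel_right] using mul_mem (mem_of_comm hE fun z _ => (sY_comm
      (show g * y * g⁻¹ * y⁻¹ ∈ sY K by simp) z).symm) hy)
    (fun y _ hy => by rw [sY_conj g hy, mul_inv_cancel]) (fun y _ _ => by simp) fun y _ => by simp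

theorem ess_two (hF : F.IsSaturated 2) {E : Subgroup (U K)} (hE : F.IsEssential 2 E) :
    ∃ i, E = sE K i := by
  by_contra! h
  have key : ∀ z ∈ E, (∀ y ∈ E, z * y = y * z) → ∀ i, z ∈ sE K i → z ∈ sY K := fun z hz hc i hi =>
    by_contra fun hz' => h i (le_antisymm (fun y hy => mem_sE_of_comm hi hz' (hc y hy))
      fun x hx => mem_of_comm hE fun y hy => sE_comm (mem_sE_of_comm hi hz' (hc y hy)) hx)
  refine not_inv_sY hF hE fun α _ y hy hy' => ?_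
  obtain ⟨i, hi⟩ := sq_iff.1 (show afn α y * afn α y = 1 by
    rw [← afn_map_mul α hy hy, sq_iff.2 ⟨true, hy'.1⟩, (homOn_afn α).map_one])
  refine key _ (afn_mem α hy) (fun z hz => ?_) i hi
  rw [← afn_afn_inv α hz, ← afn_map_mul α hy (afn_mem _ hz), sY_comm hy', afn_map_mul α (afn_mem _ hz) hy]

theorem AS_sE (hF : F.IsSaturated 2) {φ : MulAut (U K)} (hφ : φ ∈ AS F) (i : Bool) :
    ∀ x ∈ sE K i, φ x ∈ sE K i :=
  mem_of_pow_mem p2 hF hφ
    { carrier := {ψ | ∀ x ∈ sE K i, ψ x ∈ sE K i}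
      one_mem' := fun _ h => h
      mul_mem' := fun ha hb x hx => ha _ (hb x hx)
      inv_mem' := fun h => AC.inv_zpowers h _ (inv_mem (mem_zpowers _)) }
    (fun g _ h => sE_conj i g h) (aut_sq φ i)

theorem normal_of_not_ess (hF : F.IsSaturated 2) {i : Bool} (h : ¬ F.IsEssential 2 (sE K i)) :
    F.IsNormal (sE K (!i)) :=
  isNormal_of_uniq p2 hF (fun E hE => by
    obtain ⟨j, rfl⟩ := ess_two hF hE
    rw [Bool.eq_not_of_ne (show j ≠ i by rintro rfl; exact h hE)]) fun φ hφ => AS_sE hF hφ _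

theorem ess_of_not_constrained (hF : F.IsSaturated 2) (h : ¬ F.IsConstrained 2) (i : Bool) :
    F.IsEssential 2 (sE K i) := by_contra fun hi =>
  h ⟨hF, _, normal_of_not_ess hF hi, isCentric_of_isNormal (normal_of_not_ess hF hi) fun x hx =>
    mem_sE_of_comm (em_mem _ (1, 0, 0)) (by simp [mem_sY' (!i)]) (hx.2 _ (em_mem _ _))⟩

theorem le_sY (h : ∀ i, F.IsEssential 2 (sE K i)) {Q : Subgroup (U K)} (hQ : F.IsNormal Q) : Q ≤ sY K :=
  fun _ hx => ⟨le_of_isNormal_of_essential p2 hQ (h true) hx, le_of_isNormal_of_essential p2 hQ (h false) hx⟩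

theorem not_constrained (h : ∀ i, F.IsEssential 2 (sE K i)) : ¬ F.IsConstrained 2 := by
  rintro ⟨-, Q, h1, h2⟩
  simpa using (le_sY h h1 (isCentric_self h2 (show (⟨1, 0, 0, 0⟩ : U K) ∈ _ from
    ⟨trivial, fun y hy => sY_comm (le_sY h h1 hy) _⟩))).1

theorem exists_mod (hF : F.IsSaturated 2) {i : Bool} (hE : F.IsEssential 2 (sE K i)) :
    ∃ (_ : DistribMulAction (F.autGroup (sE K i)) (K × K × K)) (P : Sylow 2 (F.autGroup (sE K i)))
      (τ : K → F.autGroup (sE K i)), M2 P τ (Bf i) ∧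
      (∀ (α : F.autGroup (sE K i)) x, em i (α • x) = afn (α : MulAut (sE K i)) (em i x)) ∧
      (∀ s, ∃ g, ∀ y ∈ sE K i, afn (τ s : MulAut (sE K i)) y = g * y * g⁻¹) ∧
      ∃ g : F.autGroup (sE K i), ¬ Pres K g := by
  have πi : ∀ y z : sE K i, co i (y : U K) = co i (z : U K) → y = z := fun y z e =>
    Subtype.ext (by rw [← em_co y.2, e, em_co z.2])
  obtain ⟨_, act⟩ := exists_act (fun y : sE K i => co i (y : U K)) (fun y z => co_mul y.2 z.2)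
    (fun x => ⟨⟨_, em_mem i x⟩, co_em i x⟩) (F.autGroup _) fun α _ y hy => by
      rw [πi y 1 (hy.trans (by simp [co, Prod.ext_iff])), map_one]; simp [co, Prod.ext_iff]
  obtain ⟨P, hP⟩ := exists_syl p2 hF hE (autInducedBy_le_autGroup F le_top) le_rfl
  have hn : ∀ g : U K, g ∈ normalizerIn ⊤ (sE K i) := fun g =>
    mem_normalizerIn_of_conj (mem_top _) fun y hy => sE_conj i g hy
  have h1 : ∀ (α : F.autGroup (sE K i)) x, em i (α • x) = afn (α : MulAut (sE K i)) (em i x) :=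
    fun α x => by
      have := act α ⟨_, em_mem i x⟩
      simp only [co_em] at this
      rw [this, em_co (Subtype.prop _), afn_apply _ (em_mem i x)]
  refine ⟨_, P, fun t => ⟨_, autInducedBy_le_autGroup F le_top
    (conjAut_mem_autInducedBy (hn (em (!i) (t, 0, 0))))⟩, ⟨fun s => (hP s).trans ⟨fun ⟨g, e⟩ =>
      ⟨fs (!i) g, Subtype.ext (MulEquiv.ext fun y => πi _ _ ?_)⟩, ?_⟩, fun t x => ?_, ?_, ?_, ?_⟩, h1,
    fun s => ⟨_, fun y hy => afn_conjAut _ hy⟩, ?_⟩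
  · rw [e, co_conj g y.2]
    exact (co_conj _ y.2).trans (by simp)
  · rintro ⟨t, rfl⟩; exact ⟨_, fun _ => rfl⟩
  · rw [← co_em i (_ • x), h1]
    exact (congrArg _ (afn_conjAut _ (em_mem i x))).trans ((co_conj _ (em_mem i x)).trans (by simp))
  · cases i <;> simp only [Bf] <;> grind
  · cases i <;> simp [Bf]
  · intro v w hv hw
    cases i
    · exact ⟨w / v, div_ne_zero hw hv, by simp only [Bf]; field_simp⟩
    · exact ⟨v ^ 2 / w, div_ne_zero (pow_ne_zero 2 hv) hw, by simp only [Bf]; field_simp⟩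
  · by_contra! h
    refine not_inv_sY hF hE fun α hα y hy hy' => (mem_sY' i).2 ⟨afn_mem α hy, ?_⟩
    rw [← em_co hy, ← h1 ⟨α, hα⟩, fs_em]
    exact h _ _ ((mem_sY' i).1 hy').2

theorem core_line (hF : F.IsSaturated 2) (hE : ∀ i, F.IsEssential 2 (sE K i)) {r : U K}
    (hr : r ∈ F.core) : r.v = 0 ∨ r.w = 0 := by
  obtain ⟨_, P, τ, H, h1, -, g, hg⟩ := exists_mod hF (hE true)
  have h2 := le_sY hE (isNormal_core F)
  refine H.line hg (d := co true r) ?_ (h2 hr).2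
  rw [← fs_em true, h1, em_co (h2 hr).1]
  exact (h2 (core_inv g⁻¹.2 (h2 hr).1 hr)).2

/-- Both candidates are essential and the core meets `sZ`. -/
structure H2 (F : FusionSystem (⊤ : Subgroup (U K))) (ρ : K) : Prop where
  sat : F.IsSaturated 2
  ess : ∀ i, F.IsEssential 2 (sE K i)
  ne : ρ ≠ 0
  mem : (⟨0, 0, 0, ρ⟩ : U K) ∈ F.core

namespace H2

variable {ρ : K} (H : H2 F ρ)
include H

theorem mod (i : Bool) :
    ∃ (_ : DistribMulAction (F.autGroup (sE K i)) (K × K × K)) (P : Sylow 2 (F.autGroup (sE K i)))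
      (τ : K → F.autGroup (sE K i)), M2 P τ (Bf i) ∧
      (∀ (α : F.autGroup (sE K i)) x, em i (α • x) = afn (α : MulAut (sE K i)) (em i x)) ∧
      (∀ s, ∃ g, ∀ y ∈ sE K i, afn (τ s : MulAut (sE K i)) y = g * y * g⁻¹) ∧
      (∃ g : F.autGroup (sE K i), ¬ Pres K g) ∧
      (∀ g : F.autGroup (sE K i), (g • ((0 : K), (0 : K), ρ)).1 = 0) ∧
      (∀ (g : F.autGroup (sE K i)), ∀ y ∈ sZ K, afn (g : MulAut (sE K i)) y ∈ sZ K) ∧
      ∀ g : F.autGroup (sE K i), Pres K g →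
        ∃ φ ∈ AS F, ∀ y ∈ sE K i, φ y = afn (g : MulAut (sE K i)) y := by
  obtain ⟨_, P, τ, h0, h1, h2, g₀, h3⟩ := exists_mod H.sat (H.ess i)
  have h4 : ∀ g : F.autGroup (sE K i), (g • ((0 : K), (0 : K), ρ)).1 = 0 := fun g => by
    rw [← fs_em i, h1, em_zero]
    exact ((mem_sY' i).1 (le_sY H.ess (isNormal_core F) (core_inv g.2 (sY_le i ⟨rfl, rfl⟩) H.mem))).2
  have h5 : ∀ (g : F.autGroup (sE K i)), ∀ y ∈ sZ K, afn (g : MulAut (sE K i)) y ∈ sZ K := by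
    rintro g ⟨t, u, v, w⟩ ⟨rfl, rfl, rfl⟩
    obtain ⟨w', e⟩ := h0.invD H.ne h4 h3 g w
    rw [← em_zero i, ← h1, e, em_zero]
    exact ⟨rfl, rfl, rfl⟩
  refine ⟨_, P, τ, h0, h1, h2, ⟨g₀, h3⟩, h4, h5, fun g hg => exists_ext p2 H.sat (H.ess i)
    (fun g _ h => sE_conj i g h) (L := sZ K) (M := sY K) (fun _ h => ⟨h.1, h.2.1⟩)
    (fun g _ h => sZ_conj g h) (fun g y hy => by simp [sY_conj g hy]) (fun g y _ => by simp) g.2
    (fun y _ => h5 g y) fun y hy hy' => (mem_sY' i).2 ⟨afn_mem _ hy, ?_⟩⟩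
  rw [← em_co hy, ← h1, fs_em]
  exact hg _ ((mem_sY' i).1 hy').2

theorem AS_sZ {φ : MulAut (U K)} (hφ : φ ∈ AS F) : ∀ y ∈ sZ K, φ y ∈ sZ K := fun y hy => by
  obtain ⟨_, -, -, -, -, -, -, -, h, -⟩ := H.mod true
  obtain ⟨α, hα, e⟩ := exists_res_AS hφ (AS_sE H.sat hφ true)
  exact e y hy.1 ▸ h ⟨α, hα⟩ y hy

theorem ext {i : Bool} {f : U K → U K} (hf : IsMap F (sE K i) f) (hm : ∀ y ∈ sE K i, f y ∈ sE K i)
    (h : fs i (f ⟨0, 0, 1, 0⟩) = 0) : ∃ φ ∈ AS F, ∀ y ∈ sE K i, φ y = f y := by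
  obtain ⟨_, P, τ, h0, h1, -, -, h4, -, h5⟩ := H.mod i
  obtain ⟨α, hα, e⟩ := hf.exists_aut' hm
  obtain ⟨φ, h6, h7⟩ := h5 ⟨α, hα⟩ (h0.ti H.ne h4 (x := (0, 1, 0)) rfl one_ne_zero (by
    rwa [← fs_em i, h1, e _ (em_mem _ _), em_zero]))
  exact ⟨φ, h6, fun y hy => (h7 y hy).trans (e y hy)⟩

theorem exists_om (i : Bool) : ∃ (ψ c : K →+ K) (f : U K → U K), IsMap F (sE K i) f ∧
    ∀ a v w, f (em i (a, v + ψ a, w)) = em i (v, a + ψ v, w + c (v + a)) := by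
  obtain ⟨_, P, τ, h0, h1, -, ⟨g₀, h3⟩, h4, -⟩ := H.mod i
  obtain ⟨g, ψ, h5, h6⟩ := h0.exists_graph H.ne h4 h3
  obtain ⟨ω, c, h7⟩ := h0.exists_swap H.ne h4 h5 h6 one_ne_zero
  exact ⟨ψ, c, _, isMap_afn le_top ω.2, fun a v w => by simp [← h1, h7]⟩

variable {i : Bool} (hs : IsMap F (sE K i) (sw i))
include hs

theorem exists_tor {κ : K} (hκ : κ ≠ 0) : ∃ φ ∈ AS F, ∃ c : K →+ K,
    ∀ a v w, φ (em i (a, v, w)) = em i (κ * a, v / κ, w + c (v + κ * a)) := by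
  obtain ⟨_, P, τ, h0, h1, -, -, h4, -⟩ := H.mod i
  obtain ⟨α, hα, e⟩ := hs.exists_aut' fun y _ => sw_mem i y
  obtain ⟨ω, c, h7⟩ := h0.exists_swap H.ne h4 (g := (⟨α, hα⟩ : F.autGroup _)⁻¹) (ψ := fun _ => 0) rfl
    (fun x w => by rw [inv_inv, ← fs_em i, h1, e _ (em_mem _ _)]; simp) hκ
  simp only [add_zero] at h7
  obtain ⟨φ, h8, h9⟩ := H.ext (hs.comp' (isMap_afn le_top ω.2) fun y hy => afn_mem _ hy)
    (fun y _ => sw_mem i _) (by simp [← em_zero i, ← h1, h7])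
  exact ⟨φ, h8, c, fun a v w => by simp [h9, ← h1, h7]⟩

theorem gen {α : MulAut (sE K i)} (hα : α ∈ F.autGroup (sE K i)) : ∃ φ ∈ AS F,
    (∀ y ∈ sE K i, afn α y = φ y) ∨ ∃ g, ∀ y ∈ sE K i, afn α y = g * sw i (φ y) * g⁻¹ := by
  obtain ⟨_, P, τ, h0, h1, h2, -, h4, -, h5⟩ := H.mod i
  obtain ⟨ω, hω, e⟩ := hs.exists_aut' fun y _ => sw_mem i y
  rcases h0.gen H.ne h4 (ω := ⟨ω, hω⟩) (fun x v w => by
    rw [← co_em i (_ • _), h1, e _ (em_mem _ _), sw_em, co_em]) ⟨α, hα⟩ with h | ⟨s, h⟩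
  · obtain ⟨φ, h6, h7⟩ := h5 _ h
    exact ⟨φ, h6, Or.inl fun y hy => (h7 y hy).symm⟩
  · obtain ⟨φ, h6, h7⟩ := h5 _ h
    obtain ⟨g, hg⟩ := h2 s
    refine ⟨φ, h6, Or.inr ⟨g⁻¹, fun y hy => ?_⟩⟩
    have h8 := afn_mem α hy
    rw [h7 y hy, coe_mul, coe_mul, afn_mul _ _ hy, afn_mul _ _ h8, hg _ h8, e _ (sE_conj i g h8)]
    obtain ⟨a, v, w, h9⟩ := exists_em (sE_conj i g h8)
    rw [h9, sw_em, sw_em, ← h9]
    group

end H2

end Cfsg.Agent.SpF
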