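import Cfsg.Agent.SpF.TwoB

/-! Saturated fusion systems on a Sylow `2`-subgroup of `Sp₄(2ⁿ)`: the normal form. -/

set_option autoImplicit false
set_option linter.unusedSectionVars false

namespace Cfsg.Agent.SpF

open Subgroup Cfsg.FusionSystem Cfsg.Agent.Fus U

variable {K : Type*} [Field K] [Fintype K] [CharP K 2] {F F' : FusionSystem (⊤ : Subgroup (U K))}

theorem sigma_sq (h4 : ∀ x : K, x ^ 4 = x) {σ : K → K} (h1 : ∀ x y, σ (x * y) = σ x * σ y)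
    (h2 : ∀ x y, σ (x + y) = σ x + σ y) (h3 : σ 1 = 1) (x : K) : σ (σ x) = x := by
  have h0 : σ 0 = 0 := by simpa using h2 0 0
  obtain rfl | rfl | h : x = 0 ∨ x = 1 ∨ x * x + x + 1 = 0 := by have := h4 x; grind
  · rw [h0, h0]
  · rw [h3, h3]
  have h5 := congrArg σ h
  rw [h2, h2, h1, h3, h0] at h5
  obtain e | e : σ x = x ∨ σ x = x + 1 := by grind
  · rw [e, e]
  · rw [e, h2, e, h3]; grind

/-- The normal form. -/
structure St (F : FusionSystem (⊤ : Subgroup (U K))) (ρ : K) : Prop extends H2 F ρ where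
  swap : ∀ i, IsMap F (sE K i) (sw i)

namespace St

variable {ρ ρ' : K} (H : St F ρ)
include H

theorem pow4 (κ : K) : κ ^ 4 = κ := by
  rcases eq_or_ne κ 0 with rfl | hκ
  · simp
  obtain ⟨φ, h1, c, h2⟩ := H.exists_tor (H.swap true) hκ
  have h3 := aut_rel (AS_sE H.sat h1) (H.AS_sZ h1)
  simp only [em] at h2
  simp only [h2, map_zero, mul_zero, add_zero, zero_add] at h3
  have a1 := h3 1 κ
  have a2 := h3 κ 1
  have a3 := (h3 1 1).1
  simp only [one_mul, mul_one, one_pow] at a1 a2 a3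
  grind

theorem lin {φ : MulAut (U K)} (hφ : φ ∈ AS F) : ∃ μ ν : Kˣ, (∀ x, (φ x).t = μ * x.t) ∧
    (∀ x, (φ x).u = ν * x.u) ∧ ∀ v w, φ ⟨0, 0, v, w⟩ = ⟨0, 0, μ * ν * v, μ ^ 2 * ν * w⟩ := by
  have hE := AS_sE H.sat hφ
  have hZ := H.AS_sZ hφ
  have R := aut_rel hE hZ
  have hα : ∀ x, (φ x).t = (φ ⟨x.t, 0, 0, 0⟩).t := fun x => by
    obtain ⟨a, b, v, w, rfl⟩ := decomp x
    simp [mem_sA.1 (hE true ⟨0, 0, v, w⟩ rfl), mem_sA.1 (hE true ⟨0, b, 0, 0⟩ rfl)]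
  have hβ : ∀ x, (φ x).u = (φ ⟨0, x.u, 0, 0⟩).u := fun x => by
    obtain ⟨a, b, v, w, rfl⟩ := decomp x
    simp [mem_sB.1 (hE false ⟨0, 0, v, w⟩ rfl), mem_sB.1 (hE false ⟨a, 0, 0, 0⟩ rfl)]
  have hγ : ∀ v v', φ ⟨0, 0, v + v', 0⟩ = φ ⟨0, 0, v, 0⟩ * φ ⟨0, 0, v', 0⟩ := fun v v' => by
    rw [← map_mul]; congr 1; ext <;> simp
  have hY : ∀ v, (φ ⟨0, 0, v, 0⟩).t = 0 := fun v => hE true _ rfl
  have α1 : (φ ⟨1, 0, 0, 0⟩).t ≠ 0 := fun e => by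
    simpa [sE] using AS_sE H.sat (inv_mem hφ) true _ e
  have β1 : (φ ⟨0, 1, 0, 0⟩).u ≠ 0 := fun e => by
    simpa [sE] using AS_sE H.sat (inv_mem hφ) false _ e
  obtain ⟨μ, hμ⟩ : ∃ μ : Kˣ, ∀ x, (φ x).t = μ * x.t := by
    have h1 : ∀ t t', (φ ⟨t * t', 0, 0, 0⟩).t / (φ ⟨1, 0, 0, 0⟩).t =
        (φ ⟨t, 0, 0, 0⟩).t / (φ ⟨1, 0, 0, 0⟩).t * ((φ ⟨t', 0, 0, 0⟩).t / (φ ⟨1, 0, 0, 0⟩).t) :=
      fun t t' => by
        have a1 := (R (t * t') 1).1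
        have a2 := (R t t').1
        have a3 := (R 1 t').1
        have a4 := (R t' 1).1
        simp only [mul_one, one_mul] at a1 a3 a4
        grind
    have h2 := sigma_sq H.pow4 (σ := fun t => (φ ⟨t, 0, 0, 0⟩).t / (φ ⟨1, 0, 0, 0⟩).t) h1 (fun t t' => by
      rw [← add_div, ← mul_t, ← map_mul, hα (_ * _)]; rfl) (div_self α1)
    refine mem_of_pow_mem p2 H.sat hφ
      { carrier := {ψ | ∃ μ : Kˣ, ∀ x, (ψ x).t = μ * x.t}
        one_mem' := ⟨1, by simp⟩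
        mul_mem' := fun ⟨a, ha⟩ ⟨b, hb⟩ => ⟨a * b, fun x => by simp [ha, hb, mul_assoc]⟩
        inv_mem' := fun {ψ} ⟨a, ha⟩ => ⟨a⁻¹, fun x => by
          rw [Units.eq_inv_mul_iff_mul_eq, ← ha, MulAut.apply_inv_self]⟩ }
      (fun g => ⟨1, by simp⟩) ⟨Units.mk0 ((φ ^ 2) ⟨1, 0, 0, 0⟩).t fun e => by
        simpa [sE] using AS_sE H.sat (inv_mem (pow_mem hφ 2)) true _ e, fun x => ?_⟩
    have a1 := h1 (φ ⟨1, 0, 0, 0⟩).t ((φ ⟨x.t, 0, 0, 0⟩).t / (φ ⟨1, 0, 0, 0⟩).t)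
    rw [h2, mul_div_cancel₀ _ α1] at a1
    simp only [sq, MulAut.mul_apply, Units.val_mk0]
    rw [hα (φ x), hα x, hα (φ _)]
    grind
  have hμ0 := μ.ne_zero
  have hν : ∀ x, (φ x).u = (φ ⟨0, 1, 0, 0⟩).u * x.u := fun x => by
    have a1 := (R 1 x.u).1
    have a2 := (R x.u 1).1
    simp only [mul_one, one_mul, hμ] at a1 a2
    rw [hβ]; grind
  generalize (φ ⟨0, 1, 0, 0⟩).u = ν at β1 hν
  simp only [hμ, hν] at R
  have hδ : ∀ v, (φ ⟨0, 0, v, 0⟩).w = 0 := by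
    have h1 : ∀ v ≠ 0, (φ ⟨0, 0, v, 0⟩).w = (φ ⟨0, 0, 1, 0⟩).w := fun v hv => by
      have a1 := (R v⁻¹ (v ^ 2)).2
      have a2 := (R 1 1).2
      rw [show v⁻¹ * v ^ 2 = v by field_simp, show v⁻¹ ^ 2 * v ^ 2 = 1 by field_simp] at a1
      simp only [mul_one, one_pow] at a2
      grind
    have h2 : (φ ⟨0, 0, 1, 0⟩).w = 0 := by
      by_cases h : ∃ ω : K, ω ≠ 0 ∧ ω ≠ 1
      · obtain ⟨ω, a1, a2⟩ := h
        have := congrArg U.w (hγ ω 1)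
        rw [h1 _ (by grind), mul_w, h1 _ a1, hY] at this
        grind
      · push Not at h
        have a1 := (R 1 1).2
        have a2 := hZ ⟨0, 0, 0, 1⟩ ⟨rfl, rfl, rfl⟩
        have a3 := h (φ ⟨0, 0, 0, 1⟩).w fun e => by
          simpa [U.ext_iff] using φ.map_eq_one_iff.1 (U.ext a2.1 a2.2.1 a2.2.2 e : φ ⟨0, 0, 0, 1⟩ = 1)
        simp only [mul_one, one_pow, a3, h _ hμ0, h _ β1] at a1
        grind
    intro v
    rcases eq_or_ne v 0 with rfl | hv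
    · exact congrArg U.w (map_one φ)
    · rw [h1 v hv, h2]
  refine ⟨μ, Units.mk0 ν β1, hμ, hν, fun v w => ?_⟩
  have a1 := (R 1 v).1
  have a2 := (R 1 w).2
  have a3 := hZ ⟨0, 0, 0, w⟩ ⟨rfl, rfl, rfl⟩
  rw [show (⟨0, 0, v, w⟩ : U K) = ⟨0, 0, 0, w⟩ * ⟨0, 0, v, 0⟩ by ext <;> simp, map_mul]
  simp only [mul_one, one_mul, one_pow, hδ] at a1 a2
  refine U.ext (by simp [hμ]) (by simp [hν]) ?_ ?_
  · simp [a3.1, a3.2.2, ← a1, mul_assoc]
  · simp only [mul_w, a3.1, hδ, Units.val_mk0]; grind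

theorem clean {φ : MulAut (U K)} (hφ : φ ∈ AS F) (i : Bool) (h : (φ (em i (1, 0, 0))).v = 0) (a : K) :
    (φ (em i (a, 0, 0))).v = 0 ∧ (φ (em i (a, 0, 0))).w = 0 := by
  obtain ⟨ψ, h1, h2⟩ := H.ext ((H.swap i).comp' ((IsMap.mono hφ le_top).comp' (H.swap i)
    fun y _ => sw_mem i y) fun y _ => AS_sE H.sat hφ i _ (sw_mem i y)) (fun y _ => sw_mem i _)
    (by simpa [← em_zero i, sw] using h)
  obtain ⟨μ, ν, -, -, h3⟩ := H.lin h1
  have := h2 _ (em_mem i (0, a, 0))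
  rw [em_zero, h3, ← em_zero i, ← em_zero i, sw_em, sw] at this
  simpa using And.intro (congrArg (fs i) this).symm (congrArg U.w this).symm

theorem form {φ : MulAut (U K)} (hφ : φ ∈ AS F) : ∃ (g : U K) (μ ν : Kˣ), φ = MulAut.conj g * dg μ ν := by
  obtain ⟨μ, ν, h1, h2, -⟩ := H.lin hφ
  let g : U K := ⟨(φ ⟨0, 1, 0, 0⟩).v / ν, (φ ⟨1, 0, 0, 0⟩).v / μ, 0, 0⟩
  have h3 := mul_mem (conj_mem_AS F g) hφ
  have h4 := H.clean h3 true (by simp [em, g, h1, h2, CharTwo.add_self_eq_zero])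
  have h5 := H.clean h3 false (by simp [em, g, h1, h2]; field_simp; ring)
  obtain ⟨μ', ν', h6, h7, h8⟩ := H.lin h3
  refine ⟨g⁻¹, μ', ν', ?_⟩
  rw [map_inv, eq_inv_mul_iff_mul_eq]
  generalize MulAut.conj g * φ = ψ at h4 h5 h6 h7 h8
  ext1 x
  obtain ⟨a, b, v, w, rfl⟩ := decomp x
  rw [map_mul, map_mul, map_mul, map_mul, h8]
  simp only [em] at h4 h5
  refine congrArg₂ _ ?_ (congrArg₂ _ ?_ ?_) <;> ext <;> simp [dg_apply, h4, h5, h6, h7]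

omit H in
theorem dg_mem_of {g : U K} {μ ν : Kˣ} (h : MulAut.conj g * dg μ ν ∈ AS F) : dg μ ν ∈ AS F :=
  (mul_mem_cancel_left (conj_mem_AS F g)).1 h

theorem dg_mem {μ ν : Kˣ} (h : μ ^ 2 * ν = 1) : dg μ ν ∈ AS F := by
  obtain ⟨φ, h1, c, h2⟩ := H.exists_tor (H.swap false) μ.ne_zero
  obtain ⟨g, μ', ν', rfl⟩ := H.form h1
  have h3 := congrArg U.t (h2 1 0 0)
  have h4 := congrArg U.v (h2 0 1 0)
  simp only [em, MulAut.mul_apply, MulAut.conj_apply, dg_apply, conj_t, conj_v, mul_one] at h3 h4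
  obtain rfl := Units.ext h3
  have h5 : ((μ' : K) ^ 2 * ν) = 1 := by simpa using congrArg Units.val h
  have := μ'.ne_zero
  obtain rfl : ν' = ν := Units.ext (by grind)
  exact dg_mem_of h1

theorem center_iff : F.center = ⊥ ↔ ∃ μ ν, dg μ ν ∈ AS F ∧ μ ^ 2 * ν ≠ 1 := by
  refine ⟨fun h => by_contra fun hc => ?_, fun ⟨μ, ν, h1, h2⟩ => eq_bot_iff.2 fun z hz => ?_⟩
  · push Not at hc
    have h1 : ∀ φ ∈ AS F, ∀ x ∈ sZ K, φ x = x := by
      rintro φ hφ ⟨t, u, v, w⟩ ⟨rfl, rfl, rfl⟩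
      obtain ⟨g, μ, ν, rfl⟩ := H.form hφ
      have h2 : ((μ : K) ^ 2 * ν) = 1 := by simpa using congrArg Units.val (hc μ ν (dg_mem_of hφ))
      simp only [MulAut.mul_apply, MulAut.conj_apply, dg_apply, mul_zero, h2, one_mul]
      exact sZ_conj g ⟨rfl, rfl, rfl⟩
    have h2 := le_center (isCentral_of_fixed p2 H.sat (Q := sZ K) le_top (by
      rintro R f (rfl | hR) hf hi x hx hxR
      · obtain ⟨φ, h2, h3⟩ := exists_AS hf
        rw [← h3, h1 φ h2 x hx]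
      · obtain ⟨i, rfl⟩ := ess_two H.sat hR
        obtain ⟨α, h2, h3⟩ := hf.exists_aut hi
        obtain ⟨φ, h4, h5 | ⟨g, h5⟩⟩ := H.gen (H.swap i) h2
        · rw [← h3 x hxR, h5 x hxR, h1 φ h4 x hx]
        · rw [← h3 x hxR, h5 x hxR, h1 φ h4 x hx, sw, hx.2.2, ((mem_sY' i).1 ⟨hx.1, hx.2.1⟩).2, em_zero,
            sZ_conj g ⟨rfl, rfl, rfl⟩]
          exact U.ext hx.1.symm hx.2.1.symm hx.2.2.symm rfl))
    simpa [h, U.ext_iff] using h2 (show (⟨0, 0, 0, 1⟩ : U K) ∈ _ from ⟨rfl, rfl, rfl⟩)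
  · have h3 := le_sY H.ess (isNormal_core F) (center_le_core F hz)
    have h4 := ((mem_center_iff p2 H.sat).1 hz).2
    have h5 : z.v = 0 := (congrArg U.u (h4 _ _ (H.swap true) h3.1)).trans h3.2
    have h6 := congrArg U.w (h4 _ _ h1 trivial)
    have h7 : ((μ : K) ^ 2 * ν) ≠ 1 := fun e => h2 (Units.ext (by simpa using e))
    simp only [dg_apply] at h6
    exact U.ext h3.1 h3.2 h5 (show z.w = 0 by grind)

theorem le (H' : St F' ρ') (hc : F.center = ⊥ → F'.center = ⊥) : F ≤ F' := by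
  have key : AS F ≤ AS F' := fun φ hφ => by
    obtain ⟨g, μ, ν, rfl⟩ := H.form hφ
    refine mul_mem (conj_mem_AS F' g) ?_
    by_cases h : μ ^ 2 * ν = 1
    · exact H'.dg_mem h
    obtain ⟨μ', ν', h1, h2⟩ := H'.center_iff.1 (hc (H.center_iff.2 ⟨μ, ν, dg_mem_of hφ, h⟩))
    have h3 : μ ^ 2 * ν = μ' ^ 2 * ν' ∨ μ ^ 2 * ν = (μ' ^ 2 * ν') ^ 2 := by
      generalize μ ^ 2 * ν = a at h
      generalize μ' ^ 2 * ν' = b at h2
      have := H.pow4 a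
      have := H.pow4 b
      have := a.ne_zero
      have := b.ne_zero
      simp only [Ne, Units.ext_iff, Units.val_pow_eq_pow_val, Units.val_one] at *
      grind
    rcases h3 with h3 | h3
    · simpa [dg_mul] using mul_mem h1 (H'.dg_mem (μ := μ'⁻¹ * μ) (ν := ν'⁻¹ * ν) (by
        rw [mul_pow, mul_mul_mul_comm, h3, inv_pow, ← mul_inv, inv_mul_cancel]))
    · simpa [dg_mul] using mul_mem h1 (mul_mem h1 (H'.dg_mem (μ := μ'⁻¹ * (μ'⁻¹ * μ))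
        (ν := ν'⁻¹ * (ν'⁻¹ * ν)) (by
          rw [mul_pow, mul_pow, mul_mul_mul_comm, mul_mul_mul_comm _ (μ ^ 2), h3, inv_pow, ← mul_inv,
            sq (_ * _), inv_mul_cancel_left, inv_mul_cancel])))
  refine alperin_le p2 H.sat F' ?_
  rintro P (rfl | hP) α hα
  · obtain ⟨φ, h1, h2⟩ := exists_AS ((mem_autGroup le_rfl).1 hα)
    exact mem_autGroup_of_isMap (key h1) fun x _ => (h2 x).symm
  · obtain ⟨i, rfl⟩ := ess_two H.sat hP
    obtain ⟨φ, h1, h2 | ⟨g, h2⟩⟩ := H.gen (H.swap i) hα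
    · exact mem_autGroup_of_isMap (IsMap.mono (key h1) le_top) h2
    · exact mem_autGroup_of_isMap ((isMap_conj F' le_rfl (mem_top g)).comp' ((H'.swap i).comp'
        (IsMap.mono (key h1) le_top) (AS_sE H.sat h1 i)) fun _ _ => trivial) h2

end St

theorem exists_H2 (hF : F.IsSaturated 2) (hc : F.core ≠ ⊥) (hn : ¬ F.IsConstrained 2) :
    ∃ (F' : FusionSystem (⊤ : Subgroup (U K))) (ρ : K), H2 F' ρ ∧ ∃ a b, FIso F F' a b := by
  obtain ⟨r, hr, hr'⟩ := (bot_or_exists_ne_one _).resolve_left hc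
  have hE := ess_of_not_constrained hF hn
  have h1 := le_sY hE (isNormal_core F) hr
  by_cases h : r.v = 0
  · exact ⟨F, r.w, ⟨hF, hE, fun e => hr' (U.ext h1.1 h1.2 h e), by
      rwa [show (⟨0, 0, 0, r.w⟩ : U K) = r from U.ext h1.1.symm h1.2.symm h.symm rfl]⟩, _, _, FIso.refl F⟩
  · obtain ⟨F', h2⟩ := exists_push' (F' := F) gr
    refine ⟨F', r.v ^ 2, ⟨h2.saturated hF, ess_of_not_constrained (h2.saturated hF)
      fun e => hn (h2.symm.constrained e), pow_ne_zero 2 h, ?_⟩, _, _, h2⟩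
    simpa [gr_apply, h1.1, h1.2, (core_line hF hE hr).resolve_left h] using
      h2.imX_core_le (mem_imX_of_mem _ hr)

theorem exists_St (hF : F.IsSaturated 2) (hc : F.core ≠ ⊥) (hn : ¬ F.IsConstrained 2) :
    ∃ (F' : FusionSystem (⊤ : Subgroup (U K))) (ρ : K), St F' ρ ∧ ∃ a b, FIso F F' a b := by
  obtain ⟨F₁, ρ, H, a, b, h1⟩ := exists_H2 hF hc hn
  choose ψ c f h2 h3 using H.exists_om
  obtain ⟨F₂, h4⟩ := exists_push' (F' := F₁) (ct ψ c)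
  refine ⟨F₂, ρ, ⟨⟨h4.saturated H.sat, ess_of_not_constrained (h4.saturated H.sat)
    fun e => not_constrained H.ess (h4.symm.constrained e), H.ne, ?_⟩, fun i => ?_⟩, _, _, h1.trans h4⟩
  · simpa [ct_apply] using h4.imX_core_le (mem_imX_of_mem _ H.mem)
  · have h5 : ∀ y ∈ sE K i, ct ψ c y ∈ sE K i := fun y hy => by
      obtain ⟨a, v, w, rfl⟩ := exists_em hy
      rw [ct_em]; exact em_mem _ _
    have := h4.isMap (h2 i) (f' := sw i) fun y hy => by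
      obtain ⟨a, v, w, rfl⟩ := exists_em hy
      have := h3 i a (v + ψ i a) w
      rw [add_assoc, CharTwo.add_self_eq_zero, add_zero] at this
      rw [this, ct_em, ct_em, sw_em]
      simp only [map_add]
      congr 1
      ext <;> simp <;> grind
    rwa [imX_eq_of h5 fun y hy => ⟨_, h5 y hy, ct_ct ψ c y⟩] at this

end Cfsg.Agent.SpF
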